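import Cfsg.Agent.H199.AbMon
import Cfsg.Agent.H630.NHBabyC
import Cfsg.Agent.H715.Mon.Exact

/-!
# Row B of Ore: centralizers of the elements of order 11, 19, 23, 31 (helper480)

`card_eleven`, `card_big` (with `SThree.{0}`, i.e. S3331).
-/

set_option autoImplicit false
set_option maxRecDepth 100000

namespace Cfsg.Agent.H480.Ore.BPrimes

open Cfsg Cfsg.Agent.H630.Baby
open Cfsg.Agent.LThreeB (XT mem_XT)
open Subgroup (centralizer mem_centralizer_singleton_iff)

universe u

variable {L : Type u} [Group L] [Finite L]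

theorem card_eleven (h : Spor.IsoB L) {y : L} (hy : orderOf y = 11) :
    Nat.card ↥(centralizer ({y} : Set L)) ≤ 522720 := by
  obtain ⟨t, x, ht, hx, hxt, hc⟩ := exists_lift_card h (by norm_num) (by norm_num) hy
  have hfin : Finite Mon := MThirteen.Row.finite
  have h1 : Nat.card ↥(centralizer ({x} : Set Mon)) = 11 * 95040 :=
    H199.AbMon.eleven hx (BpSpor.MBigEleven.comm_z hx (MThirteen.Row.ta_order ht) hxt)
  have h2 : Nat.card ↥(XT x t) ≤ Nat.card ↥(centralizer ({x} : Set Mon)) := by
    refine Subgroup.card_le_of_le ?_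
    intro g hg
    rw [mem_centralizer_singleton_iff]
    exact (mem_XT.1 hg).1
  omega

/-- **orders 11, 19, 23, 31** -/
theorem card_big (h3 : H715.Mon.Grp.SThree.{0}) (h : Spor.IsoB L) {y : L}
    (hy : orderOf y = 11 ∨ orderOf y = 19 ∨ orderOf y = 23 ∨ orderOf y = 31) :
    Nat.card ↥(centralizer ({y} : Set L)) ≤ 7700000000 := by
  rcases hy with hy | hy | hy | hy
  · exact (card_eleven h hy).trans (by norm_num)
  · rw [H715.Mon.Exact.B.cent19 h3 h hy]; norm_num
  · rw [H715.Mon.Exact.B.cent23 h3 h hy]; norm_num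
  · rw [H715.Mon.Exact.B.cent31 h3 h hy]; norm_num

end Cfsg.Agent.H480.Ore.BPrimes
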