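import Cfsg.Agent.H480.Ore.BFrame
import Cfsg.Agent.H844.Ore.BType
import Cfsg.Agent.H849.FiModel

/-!
# Row B of Ore: the elements of order three of type 3A (helper480)

`x` of order three of the Monster with `C(x)/⟨x⟩ ≅ Fi24'`.

* `exists_conj` : they are conjugate; `exists_data` : `N(⟨x⟩)/⟨x⟩ ≅ Fi24`;
* `frame_of_type` : `FiType t₀ x` gives a `FiFrame` in `C(t₀)/Z(C(t₀))`;
* `no_cube`, `three_A` : the image `s` of `x` is no cube; for a 2-element `u` commuting with `s` : `u s` is a commutator or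
  `|C(u s)| ≤ 7357464576`.
-/

set_option autoImplicit false
set_option maxRecDepth 100000

namespace Cfsg.Agent.H480.Ore

open Cfsg Cfsg.Agent.MonsterX Cfsg.Agent.MonsterX.InstData Cfsg.Agent.MonsterX.MainPack Cfsg.Agent.MonsterU
open Cfsg.Agent.MonsterP Cfsg.Agent.MonsterN Cfsg.Agent.LThree Cfsg.Agent.LThreeMB
open Cfsg.Agent.MonsterX.MainBasic Cfsg.Agent.MonsterX.MainSimple Cfsg.Agent.MonsterX.Model
open Cfsg.Agent.MonsterU.Ch
open Cfsg.Agent.MonsterU.Lam2 (L2 IsType)
open Cfsg.Spor (Co1 Fi24)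
open Cfsg.Agent.H849.ThreeNorm (Data)
open Subgroup (centralizer zpowers mem_centralizer_singleton_iff center)

theorem card_fi24' : Nat.card Spor.Fi24' = 1255205709190661721292800 := R08.FiTwentyFour.card_commutator

section gen

variable {G : Type*} [Group G] {Q : Subgroup G} {z : G} {eta : G → L2}
  {pi : Subgroup.centralizer ({z} : Set G) →* Co1}

/-- `z` is not isolated in `C(x)`. -/
theorem not_isolated [Finite G] (h : Chart Q z eta pi) {x : Subgroup.centralizer ({z} : Set G)} (hx : orderOf x = 3)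
    (hiso : ∀ d : G, d * (x : G) = x * d → (d * z * d⁻¹) * z = z * (d * z * d⁻¹) → d * z * d⁻¹ = z)
    (f : XX (x : G) ≃* Spor.Fi24') : False := by
  have hs : IsSimpleGroup Spor.Fi24' := R08.FiTwentyFour.isFi24'.1
  have hx3 : Nat.card ↥(Zx (x : G)) = 3 := by
    rw [Zx, Nat.card_zpowers, ← Subgroup.orderOf_coe]
    show orderOf (x : G) = 3
    rw [Subgroup.orderOf_coe, hx]
  have hzo : orderOf (zD x) = 2 := by
    rw [← Subgroup.orderOf_coe]
    exact LargeExtra.Base.orderOf_z h.large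
  obtain ⟨N, hN, hNo, hsup⟩ := ZStar.exists_core hzo (fun d hd =>
    Subtype.ext (hiso d (mem_centralizer_singleton_iff.1 d.2) (congrArg Subtype.val hd)))
  let φ : ↥(centralizer ({(x : G)} : Set G)) →* Spor.Fi24' := f.toMonoidHom.comp (QuotientGroup.mk' (Zx (x : G)))
  have hφ : Function.Surjective φ := f.surjective.comp (QuotientGroup.mk'_surjective _)
  have hNφ : N.map φ = ⊥ := by
    rcases (hN.map φ hφ).eq_bot_or_eq_top with h1 | h1
    · exact h1
    · exfalso
      have h2 : Odd (Nat.card ↥(N.map φ)) := hNo.of_dvd_nat (Subgroup.card_map_dvd N φ)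
      rw [h1, Subgroup.card_top, card_fi24'] at h2
      revert h2
      decide
  let α : ↥(centralizer ({zD x} : Set ↥(centralizer ({(x : G)} : Set G)))) →* Spor.Fi24' := φ.comp (Subgroup.subtype _)
  have hα : Function.Surjective α := by
    intro y
    obtain ⟨g, rfl⟩ := hφ y
    have hg : g ∈ N ⊔ centralizer ({zD x} : Set ↥(centralizer ({(x : G)} : Set G))) := by rw [hsup]; trivial
    obtain ⟨n, hn, c, hc, rfl⟩ := Subgroup.mem_sup_of_normal_left.1 hg
    refine ⟨⟨c, hc⟩, ?_⟩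
    have h1 : φ n = 1 := by
      have h2 : φ n ∈ N.map φ := ⟨n, hn, rfl⟩
      rwa [hNφ, Subgroup.mem_bot] at h2
    show φ c = φ (n * c)
    rw [map_mul, h1, one_mul]
  have h2 := Subgroup.card_dvd_of_surjective α hα
  have h3 : Nat.card ↥(centralizer ({zD x} : Set ↥(centralizer ({(x : G)} : Set G)))) ∣
      Nat.card ↥(centralizer ({z} : Set G)) := by
    refine (Subgroup.card_dvd_of_injective (toCC x) (toCC_inj x)).trans ?_
    exact Subgroup.card_dvd_of_le inf_le_left
  have h4 := h2.trans h3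
  rw [AmalElts.card_centralizer h, card_fi24'] at h4
  norm_num at h4

theorem fr_twelve [Finite G] [IsSimpleGroup G] (h : Chart Q z eta pi) (I : CoOne) (ht : TrNe z pi) (hp : HasPair z pi)
    {x : Subgroup.centralizer ({z} : Set G)} (hx : orderOf x = 3) (f : XX (x : G) ≃* Spor.Fi24') :
    fr (pi x) = 2 ^ 12 := by
  rcases I.ranks (pi x) (orderOf_pi h hx) with h1 | h1 | h1 | h1
  · exact (not_isolated h hx (fun d hd hc => isolated h ht hx h1 d hd hc) f).elim
  · obtain ⟨x₀, u, g, hx₀, hfr₀, huz, hux, hne, hg⟩ := hp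
    obtain ⟨k, hk⟩ := conj_six h ht I.ranks I.six (fun x hx h2 => by
      have := good_of_inputs h I hx h2
      exact ⟨this.simple, this.nc⟩) hx₀ hfr₀ huz hux hne hg hx h1
    obtain ⟨-, ⟨e⟩⟩ := exists_XX_equiv hk
    exact (not_isolated h hx₀ (fun d hd hc => isolated h ht hx₀ hfr₀ d hd hc) (e.symm.trans f)).elim
  · exfalso
    obtain ⟨e⟩ := H849.FrTwelve.iso_th h I hx h1
    have h2 := Nat.card_congr (e.symm.trans f).toEquiv
    rw [Cfsg.Agent.S1700.result.2, card_fi24'] at h2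
    norm_num at h2
  · exact h1

end gen

/-- an element of order three of the model with `C(x)/⟨x⟩ ≅ Fi24'` is conjugate to an element of `C(z)` of fixed rank 12 -/
theorem exists_cz {x : ↥InstData.M.G} (hx : orderOf x = 3) (f : XX x ≃* Spor.Fi24') :
    ∃ (x' : centralizer ({KDone.K.z} : Set ↥InstData.M.G)) (g : ↥InstData.M.G), orderOf x' = 3 ∧
      g * (x' : ↥InstData.M.G) * g⁻¹ = x ∧ fr (KChart.pi Row.cent x') = 2 ^ 12 := by
  have := Row.finite_model
  have := Row.simple_model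
  have he : ¬ Odd (Nat.card ↥(centralizer ({x} : Set ↥InstData.M.G))) := by
    rw [Nat.not_odd_iff_even, even_iff_two_dvd, H849.FrTwelve.card_cent hx, Nat.card_congr f.toEquiv, card_fi24']
    norm_num
  obtain ⟨g, hg⟩ := LThreeM.FiRow.exists_z_of_even hx he
  have h1 : (g⁻¹ * x * g) * KDone.K.z = KDone.K.z * (g⁻¹ * x * g) := by
    calc (g⁻¹ * x * g) * KDone.K.z = g⁻¹ * (x * (g * KDone.K.z * g⁻¹)) * g := by group
      _ = g⁻¹ * ((g * KDone.K.z * g⁻¹) * x) * g := by rw [hg]
      _ = KDone.K.z * (g⁻¹ * x * g) := by group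
  let x' : centralizer ({KDone.K.z} : Set ↥InstData.M.G) := ⟨g⁻¹ * x * g, mem_centralizer_singleton_iff.2 h1⟩
  have h3 : g * (x' : ↥InstData.M.G) * g⁻¹ = x := by
    show g * (g⁻¹ * x * g) * g⁻¹ = x
    group
  have hx' : orderOf x' = 3 := by
    rw [← Subgroup.orderOf_coe, ← hx, ← h3]
    exact (orderOf_injective (MulAut.conj g).toMonoidHom (MulAut.conj g).injective (x' : ↥InstData.M.G)).symm
  obtain ⟨-, ⟨e⟩⟩ := exists_XX_equiv h3
  exact ⟨x', g, hx', h3, fr_twelve (KChart.chart KDone.lft Row.cent) CoOneFin.coOne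
    (KPair.trNe KDone.lft Row.cent (LThreeMBTr.traceNe KDone.lft LThreeMBTr.TensK.tens))
    (KPair.hasPair KDone.lft Row.cent Row.second COct.octPair) hx' (e.trans f)⟩

/-- the elements `x` of order three with `C(x)/⟨x⟩ ≅ Fi24'` are conjugate -/
theorem exists_conj {x y : ↥InstData.M.G} (hx : orderOf x = 3) (f : XX x ≃* Spor.Fi24') (hy : orderOf y = 3)
    (f' : XX y ≃* Spor.Fi24') : ∃ g : ↥InstData.M.G, g * x * g⁻¹ = y := by
  have := Row.finite_model
  have := Row.simple_model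
  obtain ⟨x', g, hx', hg, hfx⟩ := exists_cz hx f
  obtain ⟨y', k, hy', hk, hfy⟩ := exists_cz hy f'
  have h := KChart.chart KDone.lft Row.cent
  have hI := CoOneFin.coOne
  obtain ⟨s, hs⟩ := hI.twelve (KChart.pi Row.cent x') (KChart.pi Row.cent y') (orderOf_pi h hx') (orderOf_pi h hy')
    hfx hfy
  obtain ⟨c, hc⟩ := exists_conj_of_conj h (by rw [← hx', pow_orderOf_eq_one]) (by rw [← hy', pow_orderOf_eq_one]) hs
  have hc' : (c : ↥InstData.M.G) * x' * (c : ↥InstData.M.G)⁻¹ = y' := congrArg Subtype.val hc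
  refine ⟨k * c * g⁻¹, ?_⟩
  rw [← hk, ← hc', ← hg]
  group

/-- **`N(⟨x⟩)/⟨x⟩ ≅ Fi24`** for every `x` of order three with `C(x)/⟨x⟩ ≅ Fi24'` -/
theorem exists_data {x : ↥InstData.M.G} (hx : orderOf x = 3) (f : XX x ≃* Spor.Fi24') :
    ∃ r : ↥InstData.M.G, Data x r (f.toMonoidHom.comp (QuotientGroup.mk' (Zx x))) := by
  obtain ⟨y, t, π, D⟩ := H849.FiModel.exists_data
  -- `C(y)/⟨y⟩ ≅ Fi24'`
  have hker : π.ker = Zx y := by
    ext k
    rw [MonoidHom.mem_ker, D.ker, Zx]
    show (k : ↥InstData.M.G) ∈ zpowers y ↔ k ∈ zpowers (self y)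
    rw [Subgroup.mem_zpowers_iff, Subgroup.mem_zpowers_iff]
    constructor
    · rintro ⟨n, hn⟩
      exact ⟨n, Subtype.ext hn⟩
    · rintro ⟨n, hn⟩
      exact ⟨n, congrArg Subtype.val hn⟩
  let f' : XX y ≃* Spor.Fi24' :=
    (QuotientGroup.quotientMulEquivOfEq hker.symm).trans (QuotientGroup.quotientKerEquivOfSurjective π D.surj)
  obtain ⟨g, hg⟩ := exists_conj D.ord f' hx f
  obtain ⟨π', D'⟩ := D.exists_map (MulAut.conj g)
  have hgy : (MulAut.conj g) y = x := hg
  refine ⟨(MulAut.conj g) t, ?_⟩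
  exact
    { ord := hx
      inv := by
        have h1 := D'.inv
        rwa [hgy] at h1
      surj := f.surjective.comp (QuotientGroup.mk'_surjective _)
      ker := by
        intro k
        show f (QuotientGroup.mk' (Zx x) k) = 1 ↔ _
        rw [map_eq_one_iff f f.injective]
        show (QuotientGroup.mk k : XX x) = 1 ↔ _
        rw [QuotientGroup.eq_one_iff, Zx, Subgroup.mem_zpowers_iff, Subgroup.mem_zpowers_iff]
        constructor
        · rintro ⟨n, hn⟩
          exact ⟨n, congrArg Subtype.val hn⟩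
        · rintro ⟨n, hn⟩
          exact ⟨n, Subtype.ext hn⟩
      comm := by
        have h1 := D'.comm
        rw [hgy] at h1
        exact h1 }

/-- **the frame** -/
theorem frame_of_type {t₀ : ↥InstData.M.G} (htt : t₀ * t₀ = 1) (ht1 : t₀ ≠ 1)
    (h2 : Nat.card ↥(center ↥(centralizer ({t₀} : Set ↥InstData.M.G))) = 2) {L : Type*} [Group L]
    (e : ↥(centralizer ({t₀} : Set ↥InstData.M.G)) ⧸ center ↥(centralizer ({t₀} : Set ↥InstData.M.G)) ≃* L)
    {x : ↥(centralizer ({t₀} : Set ↥InstData.M.G))} (hx : orderOf x = 3)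
    (h : H844.Ore.FiType t₀ (x : ↥InstData.M.G)) : Nonempty (FiFrame (e (QuotientGroup.mk x))) := by
  have := Row.finite_model
  obtain ⟨hxt, f, a, b, P, hf⟩ := h
  obtain ⟨r, D⟩ := exists_data (by rw [Subgroup.orderOf_coe, hx]) f
  exact exists_frame htt ht1 h2 e D hxt P hf

section result

variable {t₀ : ↥InstData.M.G} (hA : LThreeB.Row.TA t₀)
    (h2 : Nat.card ↥(center ↥(centralizer ({t₀} : Set ↥InstData.M.G))) = 2) {L : Type*} [Group L]
    (e : ↥(centralizer ({t₀} : Set ↥InstData.M.G)) ⧸ center ↥(centralizer ({t₀} : Set ↥InstData.M.G)) ≃* L)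
    {x : ↥(centralizer ({t₀} : Set ↥InstData.M.G))} (hx : orderOf x = 3)
    (h : H844.Ore.FiType t₀ (x : ↥InstData.M.G))
include hA h2 hx h

theorem exists_fiFrame : Nonempty (FiFrame (e (QuotientGroup.mk x))) := by
  have ho := MThirteen.Row.ta_order hA
  refine frame_of_type ?_ ?_ h2 e hx h
  · rw [← pow_two, ← ho, pow_orderOf_eq_one]
  · rintro rfl
    rw [orderOf_one] at ho
    norm_num at ho

theorem order_s : orderOf (e (QuotientGroup.mk x)) = 3 := by
  obtain ⟨F⟩ := exists_fiFrame hA h2 e hx h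
  have : Fact (Nat.Prime 3) := ⟨Nat.prime_three⟩
  refine orderOf_eq_prime ?_ ?_
  · rw [← map_pow, ← QuotientGroup.mk_pow, ← hx, pow_orderOf_eq_one, QuotientGroup.mk_one, map_one]
  · intro h1
    rw [map_eq_one_iff e e.injective, QuotientGroup.eq_one_iff] at h1
    have h3 : x ^ Nat.card ↥(center ↥(centralizer ({t₀} : Set ↥InstData.M.G))) = 1 := by
      have := pow_card_eq_one' (x := (⟨x, h1⟩ : ↥(center ↥(centralizer ({t₀} : Set ↥InstData.M.G)))))
      exact congrArg Subtype.val this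
    rw [h2] at h3
    have h4 := orderOf_dvd_of_pow_eq_one h3
    rw [hx] at h4
    norm_num at h4

/-- `s` is no cube -/
theorem no_cube (y : L) (hy : y ^ 3 = e (QuotientGroup.mk x)) : False := by
  obtain ⟨F⟩ := exists_fiFrame hA h2 e hx h
  refine F.no_cube (order_s hA h2 e hx h) y ?_
  rw [← hy, pow_succ, pow_two]

/-- **3A** -/
theorem three_A (hFi : Cfsg.Agent.H777.Ore.AllC Spor.Fi22) {u : L} {n : ℕ} (hn : u ^ 2 ^ n = 1)
    (hus : u * e (QuotientGroup.mk x) = e (QuotientGroup.mk x) * u) :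
    Cfsg.Agent.H777.Ore.IsC (u * e (QuotientGroup.mk x)) ∨
      Nat.card ↥(centralizer ({u * e (QuotientGroup.mk x)} : Set L)) ≤ 7700000000 := by
  have := Row.finite_model
  have : Finite L := Finite.of_equiv _ e.toEquiv
  obtain ⟨F⟩ := exists_fiFrame hA h2 e hx h
  rcases F.isC_or_card (order_s hA h2 e hx h) hFi hn hus with h1 | h1
  · exact Or.inl h1
  · exact Or.inr (h1.trans (by norm_num))

end result

end Cfsg.Agent.H480.Ore
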