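import Cfsg.Agent.H480.Ore.BFiType

/-!
# Row B of Ore: the elements of type 3A, final form (helper480)

For `s` in the Baby Monster with `FiB s` :

* `frame_of_fiB`, `order_of_fiB`, `isC_of_fiB`, `real_of_fiB`, `not_cube_of_fiB`;
* `isC_or_card_of_fiB` : for a 2-element `u` commuting with `s` : `u s` is a commutator or `|C(u s)| ≤ 7357464576`
  (from the row `Fi22`); `i4_or_card_of_fiB` : the same for products of four involutions.
-/

set_option autoImplicit false
set_option maxRecDepth 100000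

namespace Cfsg.Agent.H480.Ore

open Cfsg Cfsg.Agent.H777.Ore
open Cfsg.Agent.H844.Ore (FiB)
open Subgroup (centralizer mem_centralizer_singleton_iff center)

namespace FiFrame

variable {L : Type*} [Group L] {s : L} (D : FiFrame s) (hs : orderOf s = 3)
include D hs

omit hs in
theorem i_inv (k : ℤ) : D.i * s ^ k * D.i⁻¹ = (s ^ k)⁻¹ := by rw [← conj_zpow, D.inv, inv_zpow]

theorem ii : D.i * D.i = 1 := by
  have h1 : D.i * D.i * s = s * (D.i * D.i) := by
    have h2 : D.i * (D.i * s * D.i⁻¹) * D.i⁻¹ = s := by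
      rw [D.inv]
      have h3 := D.i_inv 1
      rw [zpow_one] at h3
      have h4 : D.i * s⁻¹ * D.i⁻¹ = (D.i * s * D.i⁻¹)⁻¹ := by group
      rw [h4, h3, inv_inv]
    calc D.i * D.i * s = D.i * (D.i * s * D.i⁻¹) * D.i⁻¹ * (D.i * D.i) := by group
      _ = s * (D.i * D.i) := by rw [h2]
  obtain ⟨k, f, hk⟩ := D.out (D.i * D.i) h1 (fun f => by rw [mul_assoc, D.icomm, ← mul_assoc, D.icomm, mul_assoc])
  have hf : f = 1 := by
    apply Fi22Out.center_triv
    intro y
    apply D.inj
    have h2 : D.j f = (s ^ k)⁻¹ * (D.i * D.i) := by rw [hk]; group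
    have c1 : Commute (s ^ k)⁻¹ (D.j y) := ((show Commute (D.j y) s from D.comm y).zpow_right k).symm.inv_left
    have c2 : Commute D.i (D.j y) := D.icomm y
    rw [map_mul, map_mul, h2]
    exact (c1.mul_left (c2.mul_left c2)).eq
  rw [hf, map_one, mul_one] at hk
  have h2 : s ^ k = (s ^ k)⁻¹ := by
    rw [← D.i_inv k, ← hk]
    group
  have h3 : s ^ k * s ^ k = 1 := by
    nth_rw 1 [h2]
    exact inv_mul_cancel _
  have h4 := zpow_three hs k
  rw [hk]
  calc s ^ k = s ^ (3 * k) * (s ^ k * s ^ k)⁻¹ := by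
        rw [← zpow_add, ← zpow_neg, ← zpow_add]
        congr 1
        ring
    _ = 1 := by rw [h4, h3, inv_one, mul_one]

theorem isC_s : IsC s := by
  refine ⟨D.i, s, ?_⟩
  have h3 := zpow_three hs 1
  rw [D.inv]
  calc s = s ^ ((3 : ℤ) * 1) * (s⁻¹ * s⁻¹) := by group
    _ = s⁻¹ * s⁻¹ := by rw [h3, one_mul]

/-- products of four elements with square one -/
theorem i4_j (hA : Inv4 Spor.Fi22) (f : Spor.Fi22) : I4 (D.j f * s) := by
  obtain ⟨a, b, c, d, ha, hb, hc, hd, hf⟩ := hA f
  have hii := D.ii hs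
  have hiv : D.i⁻¹ = D.i := inv_eq_of_mul_eq_one_left hii
  have his : D.i * s * (D.i * s) = 1 := by
    have h1 := D.inv
    rw [hiv] at h1
    calc D.i * s * (D.i * s) = (D.i * s * D.i) * s := by group
      _ = 1 := by rw [h1, inv_mul_cancel]
  refine ⟨D.j a * D.i, D.j b * (D.i * s), D.j c, D.j d, ?_, ?_, ?_, ?_, ?_⟩
  · have h1 := D.icomm a
    calc D.j a * D.i * (D.j a * D.i) = D.j a * (D.i * D.j a) * D.i := by group
      _ = D.j (a * a) * (D.i * D.i) := by rw [h1, map_mul]; group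
      _ = 1 := by rw [ha, hii, map_one, one_mul]
  · have h1 : D.i * s * D.j b = D.j b * (D.i * s) := by
      rw [mul_assoc, ← D.comm b, ← mul_assoc, D.icomm, mul_assoc]
    calc D.j b * (D.i * s) * (D.j b * (D.i * s)) = D.j b * (D.i * s * D.j b) * (D.i * s) := by group
      _ = D.j (b * b) * (D.i * s * (D.i * s)) := by rw [h1, map_mul]; group
      _ = 1 := by rw [hb, his, map_one, one_mul]
  · rw [← map_mul, hc, map_one]
  · rw [← map_mul, hd, map_one]
  · have h1 : D.i * D.j b = D.j b * D.i := D.icomm b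
    have h2 : s * D.j c = D.j c * s := (D.comm c).symm
    have h3 : s * D.j d = D.j d * s := (D.comm d).symm
    rw [hf, map_mul, map_mul, map_mul]
    symm
    calc D.j a * D.i * (D.j b * (D.i * s)) * D.j c * D.j d
        = D.j a * (D.i * D.j b) * D.i * (s * D.j c) * D.j d := by group
      _ = D.j a * D.j b * (D.i * D.i) * D.j c * (s * D.j d) := by rw [h1, h2]; group
      _ = D.j a * D.j b * D.j c * D.j d * s := by rw [hii, h3]; group

end FiFrame

section

variable {L : Type*} [Group L] {s : L} (h : FiB s)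
include h

theorem frame_of_fiB : Nonempty (FiFrame s) := by
  obtain ⟨t₀, hA, h2, e, x, hx, rfl, hF⟩ := h
  exact exists_fiFrame hA h2 e hx hF

theorem order_of_fiB : orderOf s = 3 := by
  obtain ⟨t₀, hA, h2, e, x, hx, rfl, hF⟩ := h
  exact order_s hA h2 e hx hF

theorem finite_of_fiB : Finite L := by
  obtain ⟨t₀, hA, h2, e, x, hx, rfl, hF⟩ := h
  have := LThreeMB.Row.finite_model
  exact Finite.of_equiv _ e.toEquiv

theorem isC_of_fiB : IsC s := by
  obtain ⟨D⟩ := frame_of_fiB h
  exact D.isC_s (order_of_fiB h)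

theorem real_of_fiB : ∃ i : L, i * i = 1 ∧ i * s * i⁻¹ = s⁻¹ := by
  obtain ⟨D⟩ := frame_of_fiB h
  exact ⟨D.i, D.ii (order_of_fiB h), D.inv⟩

theorem not_cube_of_fiB (y : L) : y ^ 3 ≠ s := by
  intro hy
  obtain ⟨D⟩ := frame_of_fiB h
  refine D.no_cube (order_of_fiB h) y ?_
  rw [← hy, pow_succ, pow_two]

theorem isC_or_card_of_fiB (hFi : AllC Spor.Fi22) {u : L} {n : ℕ} (hn : u ^ 2 ^ n = 1) (hus : u * s = s * u) :
    IsC (u * s) ∨ Nat.card ↥(centralizer ({u * s} : Set L)) ≤ 7357464576 := by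
  have := finite_of_fiB h
  obtain ⟨D⟩ := frame_of_fiB h
  exact D.isC_or_card (order_of_fiB h) hFi hn hus

theorem i4_or_card_of_fiB (hFi : Inv4 Spor.Fi22) {u : L} {n : ℕ} (hn : u ^ 2 ^ n = 1) (hus : u * s = s * u) :
    I4 (u * s) ∨ Nat.card ↥(centralizer ({u * s} : Set L)) ≤ 7357464576 := by
  have := finite_of_fiB h
  obtain ⟨D⟩ := frame_of_fiB h
  have hs := order_of_fiB h
  by_cases huS : u ∈ D.S
  · left
    obtain ⟨f, rfl⟩ := D.two_mem hs hn huS
    exact D.i4_j hs hFi f
  · right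
    exact D.card_le hs hn hus huS

/-- `|C(s)| ≤ 6 |Fi22|` -/
theorem card_of_fiB : Nat.card ↥(centralizer ({s} : Set L)) ≤ 6 * Nat.card Spor.Fi22 := by
  have := finite_of_fiB h
  obtain ⟨D⟩ := frame_of_fiB h
  have hs := order_of_fiB h
  have hfin : Finite Spor.Fi22 := Finite.of_injective D.j D.inj
  set A : Subgroup L := centralizer ({s} : Set L) with hA
  have h1 : Nat.card ↥(A ⊓ D.S) ≤ 3 * Nat.card Spor.Fi22 := by
    let φ : ↥(Subgroup.zpowers s) × Spor.Fi22 → L := fun p => (p.1 : L) * D.j p.2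
    have h2 : ((A ⊓ D.S : Subgroup L) : Set L) ⊆ Set.range φ := by
      rintro _ ⟨-, ⟨k, f, rfl⟩⟩
      exact ⟨(⟨s ^ k, k, rfl⟩, f), rfl⟩
    have h3 : Nat.card ↥(A ⊓ D.S) ≤ Nat.card (Set.range φ) := Nat.card_mono (Set.finite_range φ) h2
    have h4 : Nat.card (Set.range φ) ≤ Nat.card (↥(Subgroup.zpowers s) × Spor.Fi22) :=
      Nat.card_le_card_of_surjective (Set.rangeFactorization φ) Set.rangeFactorization_surjective
    rw [Nat.card_prod, Nat.card_zpowers, hs] at h4
    exact h3.trans h4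
  have h2 : Nat.card A ≤ 2 * Nat.card ↥(A ⊓ D.S) := by
    have h3 := ((A ⊓ D.S).subgroupOf A).card_mul_index
    rw [Nat.card_congr (Subgroup.subgroupOfEquivOfLe (inf_le_left : A ⊓ D.S ≤ A)).toEquiv] at h3
    have h4 : ((A ⊓ D.S).subgroupOf A).index ≤ 2 := by
      by_cases h5 : A ≤ D.S
      · have h6 : (A ⊓ D.S).subgroupOf A = ⊤ := by
          rw [Subgroup.subgroupOf_eq_top]
          exact le_inf le_rfl h5
        rw [h6, Subgroup.index_top]
        norm_num
      · obtain ⟨a, haA, haS⟩ := SetLike.not_le_iff_exists.1 h5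
        have hm : ∀ b : A, b ∈ (A ⊓ D.S).subgroupOf A ↔ (b : L) ∈ D.S := by
          intro b
          rw [Subgroup.mem_subgroupOf, Subgroup.mem_inf]
          exact and_iff_right b.2
        have h6 : ((A ⊓ D.S).subgroupOf A).index = 2 := by
          rw [Subgroup.index_eq_two_iff]
          refine ⟨⟨a, haA⟩, fun b => ?_⟩
          rw [hm, hm]
          by_cases hb : (b : L) ∈ D.S
          · right
            refine ⟨hb, fun h7 => haS ?_⟩
            have h8 := D.S.mul_mem (D.S.inv_mem hb) h7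
            rwa [Subgroup.coe_mul, inv_mul_cancel_left] at h8
          · left
            refine ⟨?_, hb⟩
            exact D.cover' (mem_centralizer_singleton_iff.1 b.2) (mem_centralizer_singleton_iff.1 haA) hb haS
        rw [h6]
    rw [← h3, mul_comm]
    exact Nat.mul_le_mul_right _ h4
  omega

end

end Cfsg.Agent.H480.Ore
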