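import Cfsg.Agent.H480.Ore.FiFrame
import Cfsg.Agent.H849.ThreeNorm
import Cfsg.Agent.H979.CovLift
import Cfsg.Agent.CTwoTab.FiTF

/-!
# From `N(⟨x⟩)/⟨x⟩ ≅ Fi24` to a frame (helper480)

`Data x r π` : `x` of order three with `N(⟨x⟩)/⟨x⟩ ≅ Fi24`; `t` an involution of `C(x)`, `π t = a b` for commuting
transpositions `a`, `b`.

* `exists_K` : `C(x, t) ≥ ⟨x⟩ × K`, `K ≅ 2.Fi22`, `t ∈ K`, an involution `i` inverts `x` and centralizes `K`;
* `exists_frame` : a `FiFrame` for the image of `x` in `C(t)/Z(C(t))`, if `|Z(C(t))| = 2`.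
-/

set_option autoImplicit false
set_option maxRecDepth 100000

namespace Cfsg.Agent.H480.Ore

open Cfsg Cfsg.Agent.H849.ThreeNorm
open Cfsg.Agent.R08 Cfsg.Agent.R08.FiTwentyFour
open Cfsg.Spor (Fi24)
open Subgroup (centralizer mem_centralizer_singleton_iff zpowers center)

theorem center_fi24 : Subgroup.center ↥(_root_.commutator Fi24) = ⊥ := by
  have hs : IsSimpleGroup ↥(_root_.commutator Fi24) := isFi24'.1
  have hc : Nat.card ↥(_root_.commutator Fi24) = 1255205709190661721292800 := card_commutator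
  have : Finite Fi24 := finite_Fi24
  rcases (inferInstance : (Subgroup.center ↥(_root_.commutator Fi24)).Normal).eq_bot_or_eq_top with h | h
  · exact h
  · exfalso
    have h1 : ∀ a b : ↥(_root_.commutator Fi24), a * b = b * a := fun a b => by
      have : b ∈ Subgroup.center ↥(_root_.commutator Fi24) := by rw [h]; trivial
      exact Subgroup.mem_center_iff.1 this a
    let _ : CommGroup ↥(_root_.commutator Fi24) := { (inferInstance : Group _) with mul_comm := h1 }
    have h2 : IsSimpleGroup ↥(_root_.commutator Fi24) := hs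
    have h3 : (Nat.card ↥(_root_.commutator Fi24)).Prime := IsSimpleGroup.prime_card
    rw [hc] at h3
    revert h3
    norm_num

section abs

variable {G : Type*} [Group G] {x r : G} {π : centralizer ({x} : Set G) →* ↥(_root_.commutator Fi24)}
  (D : Data x r π)
include D

/-- the map `N(⟨x⟩) → Aut Fi24'` is onto, `Fi24 → Aut Fi24'` is injective -/
theorem au_surj [Finite G] : Function.Surjective D.auHom ∧
    Function.Injective (MulAut.conjNormal : Fi24 →* MulAut ↥(_root_.commutator Fi24)) := by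
  have : Finite Fi24 := finite_Fi24
  let ψ : Fi24 →* MulAut ↥(_root_.commutator Fi24) := MulAut.conjNormal
  have hψ : Function.Surjective ψ := by
    intro α
    obtain ⟨g, hg⟩ := Cfsg.Agent.KFacts.FiTF.exists_conj α
    refine ⟨g, ?_⟩
    ext y
    rw [hg]
    exact MulAut.conjNormal_apply g y
  have hfin : Finite (MulAut ↥(_root_.commutator Fi24)) := Finite.of_surjective ψ hψ
  have h1 : Nat.card (MulAut ↥(_root_.commutator Fi24)) ≤ Nat.card Fi24 := Nat.card_le_card_of_surjective ψ hψ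
  let e1 : N x ⧸ D.auHom.ker ≃* D.auHom.range := QuotientGroup.quotientKerEquivRange D.auHom
  have h2 : Nat.card D.auHom.range = Nat.card Fi24 := by
    rw [← Nat.card_congr e1.toEquiv, D.ker_auHom center_fi24]
    exact D.card_quot index_commutator
  have h3 : Nat.card D.auHom.range ≤ Nat.card (MulAut ↥(_root_.commutator Fi24)) := Subgroup.card_le_card_group _
  have h4 : Nat.card (MulAut ↥(_root_.commutator Fi24)) = Nat.card Fi24 := le_antisymm h1 (h2 ▸ h3)
  have h5 : D.auHom.range = ⊤ := Subgroup.eq_top_of_card_eq _ (h2.trans h4.symm)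
  exact ⟨MonoidHom.range_eq_top.1 h5, ((Nat.bijective_iff_surjective_and_card ψ).2 ⟨hψ, h4.symm⟩).1⟩

theorem zpow_eq_one {k : ℤ} (h : x ^ k = (x ^ k)⁻¹) : x ^ k = 1 := by
  have h3 : x ^ (3 * k) = 1 := by
    rw [zpow_mul, show ((3 : ℤ)) = ((3 : ℕ) : ℤ) by norm_num, zpow_natCast, ← D.ord, pow_orderOf_eq_one, one_zpow]
  have h2 : x ^ k * x ^ k = 1 := by
    nth_rw 1 [h]
    exact inv_mul_cancel _
  calc x ^ k = x ^ (3 * k) * (x ^ k * x ^ k)⁻¹ := by
        rw [← zpow_add, ← zpow_neg, ← zpow_add]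
        congr 1
        ring
    _ = 1 := by rw [h3, h2, inv_one, mul_one]

theorem au_of_mem (n : N x) (hn : (n : G) ∈ centralizer ({x} : Set G)) :
    D.auHom n = MulAut.conjNormal (π ⟨n, hn⟩ : Fi24) := by
  refine MulEquiv.ext fun f => ?_
  obtain ⟨g, rfl⟩ := D.surj f
  apply Subtype.ext
  rw [MulAut.conjNormal_apply]
  show ((D.au n (π g) : ↥(_root_.commutator Fi24)) : Fi24) = _
  rw [D.au_apply]
  have e : cj D.ord n g = (⟨n, hn⟩ : centralizer ({x} : Set G)) * g * (⟨n, hn⟩ : centralizer ({x} : Set G))⁻¹ := rfl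
  rw [e, map_mul, map_mul, map_inv]
  rfl

/-- an element of `N(⟨x⟩)` inducing a transposition is an involution inverting `x` -/
theorem inv_of_au [Finite G] {n : N x} {b : Fi24} (hb : b ∈ L) (hn : D.auHom n = MulAut.conjNormal b) :
    (n : G) * n = 1 ∧ (n : G) * x * (n : G)⁻¹ = x⁻¹ := by
  have hinv : (n : G) * x * (n : G)⁻¹ = x⁻¹ := by
    rcases conj_cases D.ord n with h | h
    · exfalso
      have hm : (n : G) ∈ centralizer ({x} : Set G) := mem_cent_iff.2 h
      rw [au_of_mem D n hm] at hn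
      have h1 := (au_surj D).2 hn
      apply odd hb
      rw [← h1]
      exact (π ⟨n, hm⟩).2
    · exact h
  refine ⟨?_, hinv⟩
  have h1 : n * n ∈ D.auHom.ker := by
    rw [MonoidHom.mem_ker, map_mul, hn, ← map_mul, sq hb, map_one]
  rw [D.ker_auHom center_fi24, Subgroup.mem_subgroupOf] at h1
  obtain ⟨k, hk⟩ := Subgroup.mem_zpowers_iff.1 h1
  have hk' : x ^ k = (n : G) * n := hk
  rw [← hk']
  apply zpow_eq_one D
  have h2 : (n : G) * x ^ k * (n : G)⁻¹ = (x ^ k)⁻¹ := by
    rw [← conj_zpow, hinv, inv_zpow]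
  rw [← h2, hk']
  group

omit D in
/-- the subgroup `K` -/
def KK (x i t : G) : Subgroup G := centralizer ({x} : Set G) ⊓ centralizer ({i} : Set G) ⊓ centralizer ({t} : Set G)

omit D in
theorem mem_KK {x i t k : G} : k ∈ KK x i t ↔ k * x = x * k ∧ k * i = i * k ∧ k * t = t * k := by
  unfold KK
  rw [Subgroup.mem_inf, Subgroup.mem_inf, mem_centralizer_singleton_iff, mem_centralizer_singleton_iff,
    mem_centralizer_singleton_iff, and_assoc]

theorem exists_K [Finite G] {t : G} (htx : t * x = x * t) (htt : t * t = 1) {a b : Fi24} (P : TetFi24A.At a b)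
    (hτ : (π ⟨t, mem_centralizer_singleton_iff.2 htx⟩ : Fi24) = a * b) :
    ∃ (i : G) (p : ↥(KK x i t) →* Spor.Fi22), i * i = 1 ∧ i * x * i⁻¹ = x⁻¹ ∧ i * t = t * i ∧ Function.Surjective p ∧
      (∀ k, p k = 1 ↔ (k : G) = 1 ∨ (k : G) = t) ∧
      (∀ c d : G, c * x = x * c → c * t = t * c → d * x = x * d → d * t = t * d →
        (¬ ∃ (m : ℤ) (k : ↥(KK x i t)), c = x ^ m * k) → (¬ ∃ (m : ℤ) (k : ↥(KK x i t)), d = x ^ m * k) →
        ∃ (m : ℤ) (k : ↥(KK x i t)), c * d = x ^ m * k) ∧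
      (∀ c : G, c * x = x * c → c * t = t * c → (∀ k : ↥(KK x i t), c * k * c⁻¹ = k ∨ c * k * c⁻¹ = t * k) →
        ∃ (m : ℤ) (k : ↥(KK x i t)), c = x ^ m * k) := by
  obtain ⟨n, hn⟩ := (au_surj D).1 (MulAut.conjNormal b)
  obtain ⟨hii, hix⟩ := inv_of_au D P.hb hn
  -- `i` commutes with `t`
  have htN : t ∈ N x := cent_le (mem_centralizer_singleton_iff.2 htx)
  have hau : D.auHom (⟨t, htN⟩ * n) = MulAut.conjNormal a := by
    rw [map_mul, hn, au_of_mem D ⟨t, htN⟩ (mem_centralizer_singleton_iff.2 htx), hτ, ← map_mul, mul_assoc, sq P.hb,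
      mul_one]
  obtain ⟨hti, -⟩ := inv_of_au D P.ha hau
  have hti' : t * (n : G) * (t * n) = 1 := hti
  obtain ⟨i, hi⟩ : ∃ i : G, i = n := ⟨_, rfl⟩
  rw [← hi] at hii hix hti'
  have hiinv : i⁻¹ = i := inv_eq_of_mul_eq_one_left hii
  have htinv : t⁻¹ = t := inv_eq_of_mul_eq_one_left htt
  have hit : i * t = t * i := by
    have h1 : t * i = (t * i)⁻¹ := eq_inv_of_mul_eq_one_left hti'
    rw [h1, mul_inv_rev, hiinv, htinv]
  have h3k : ∀ k : ℤ, x ^ (3 * k) = 1 := fun k => by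
    rw [zpow_mul, show ((3 : ℤ)) = ((3 : ℕ) : ℤ) by norm_num, zpow_natCast, ← D.ord, pow_orderOf_eq_one, one_zpow]
  -- the map `C(x) → Fi24`
  have hcj : ∀ (g : G) (hg : g * x = x * g), ∃ hg' : (i * g * i⁻¹) * x = x * (i * g * i⁻¹),
      (π ⟨i * g * i⁻¹, mem_centralizer_singleton_iff.2 hg'⟩ : Fi24) =
        b * π ⟨g, mem_centralizer_singleton_iff.2 hg⟩ * b⁻¹ := by
    intro g hg
    have h1 := (cj D.ord n ⟨g, mem_centralizer_singleton_iff.2 hg⟩).2
    have h2 : D.au n (π ⟨g, mem_centralizer_singleton_iff.2 hg⟩) = _ := D.au_apply n _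
    have h3 : D.au n = MulAut.conjNormal b := hn
    rw [h3] at h2
    have h4 := congrArg Subtype.val h2
    rw [MulAut.conjNormal_apply] at h4
    subst hi
    exact ⟨mem_centralizer_singleton_iff.1 h1, h4.symm⟩
  have hker : ∀ (g : G) (hg : g * x = x * g), (π ⟨g, mem_centralizer_singleton_iff.2 hg⟩ : Fi24) = 1 ↔
      ∃ m : ℤ, g = x ^ m := by
    intro g hg
    have h1 := D.ker ⟨g, mem_centralizer_singleton_iff.2 hg⟩
    constructor
    · intro h2
      obtain ⟨m, hm⟩ := Subgroup.mem_zpowers_iff.1 (h1.1 (Subtype.ext h2))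
      exact ⟨m, hm.symm⟩
    · rintro ⟨m, hm⟩
      exact congrArg Subtype.val (h1.2 (Subgroup.mem_zpowers_iff.2 ⟨m, hm.symm⟩))
  have hmul : ∀ (g h : G) (hg : g * x = x * g) (hh : h * x = x * h) (hgh : g * h * x = x * (g * h)),
      (π ⟨g * h, mem_centralizer_singleton_iff.2 hgh⟩ : Fi24) =
        (π ⟨g, mem_centralizer_singleton_iff.2 hg⟩ : Fi24) * π ⟨h, mem_centralizer_singleton_iff.2 hh⟩ := by
    intro g h hg hh hgh
    have h1 : (⟨g * h, mem_centralizer_singleton_iff.2 hgh⟩ : centralizer ({x} : Set G)) =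
        ⟨g, mem_centralizer_singleton_iff.2 hg⟩ * ⟨h, mem_centralizer_singleton_iff.2 hh⟩ := rfl
    rw [h1, map_mul]
    rfl
  have hinv : ∀ (g : G) (hg : g * x = x * g) (hg' : g⁻¹ * x = x * g⁻¹),
      (π ⟨g⁻¹, mem_centralizer_singleton_iff.2 hg'⟩ : Fi24) =
        (π ⟨g, mem_centralizer_singleton_iff.2 hg⟩ : Fi24)⁻¹ := by
    intro g hg hg'
    have h1 : (⟨g⁻¹, mem_centralizer_singleton_iff.2 hg'⟩ : centralizer ({x} : Set G)) =
        ⟨g, mem_centralizer_singleton_iff.2 hg⟩⁻¹ := rfl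
    rw [h1, map_inv]
    rfl
  -- `g` commutes with `x`, `g'` has the same image: `g = x ^ m * g'`
  have hsame : ∀ (g g' : G) (hg : g * x = x * g) (hg' : g' * x = x * g'),
      (π ⟨g, mem_centralizer_singleton_iff.2 hg⟩ : Fi24) = π ⟨g', mem_centralizer_singleton_iff.2 hg'⟩ →
        ∃ m : ℤ, g = x ^ m * g' := by
    intro g g' hg hg' h
    have h1 : g'⁻¹ * x = x * g'⁻¹ := (show Commute g' x from hg').inv_left
    have h2 : g * g'⁻¹ * x = x * (g * g'⁻¹) := by rw [mul_assoc, h1, ← mul_assoc, hg, mul_assoc]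
    obtain ⟨m, hm⟩ := (hker (g * g'⁻¹) h2).1 (by rw [hmul g g'⁻¹ hg h1 h2, hinv g' hg' h1, h, mul_inv_cancel])
    exact ⟨m, by rw [← hm, inv_mul_cancel_right]⟩
  have hxi : ∀ m : ℤ, i * x ^ m * i⁻¹ = (x ^ m)⁻¹ := fun m => by rw [← conj_zpow, hix, inv_zpow]
  have hxt : ∀ m : ℤ, t * x ^ m = x ^ m * t := fun m => (show Commute t x from htx).zpow_right m
  have hxx : ∀ m : ℤ, x ^ m * x = x * x ^ m := fun m => (Commute.refl x).zpow_left m
  -- commuting with `t`
  have hct : ∀ (g : G) (hg : g * x = x * g),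
      (π ⟨g, mem_centralizer_singleton_iff.2 hg⟩ : Fi24) * (a * b) =
        a * b * π ⟨g, mem_centralizer_singleton_iff.2 hg⟩ → g * t = t * g := by
    intro g hg h
    have h1 : g * t * x = x * (g * t) := by rw [mul_assoc, htx, ← mul_assoc, hg, mul_assoc]
    have h2 : t * g * x = x * (t * g) := by rw [mul_assoc, hg, ← mul_assoc, htx, mul_assoc]
    obtain ⟨m, hm⟩ := hsame (g * t) (t * g) h1 h2 (by rw [hmul g t hg htx h1, hmul t g htx hg h2, hτ, h])
    have h3 : x ^ m = (x ^ m)⁻¹ := by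
      have h4 : (x ^ m * t) * (x ^ m * t) = 1 := by
        have h5 : x ^ m * t = g * t * g⁻¹ := by rw [hm]; group
        rw [h5]
        calc g * t * g⁻¹ * (g * t * g⁻¹) = g * (t * t) * g⁻¹ := by group
          _ = 1 := by rw [htt]; group
      have h5 : x ^ m * x ^ m = 1 := by
        calc x ^ m * x ^ m = x ^ m * x ^ m * (t * t) := by rw [htt, mul_one]
          _ = x ^ m * (x ^ m * t) * t := by group
          _ = x ^ m * (t * x ^ m) * t := by rw [hxt]
          _ = (x ^ m * t) * (x ^ m * t) := by group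
          _ = 1 := h4
      exact eq_inv_of_mul_eq_one_left h5
    rw [hm, zpow_eq_one D h3, one_mul]
  -- elements of `K`
  have hKab : ∀ (k : G) (hk : k ∈ KK x i t), (π ⟨k, mem_centralizer_singleton_iff.2 (mem_KK.1 hk).1⟩ : Fi24) ∈
      Cab a b := by
    intro k hk
    obtain ⟨h1, h2, h3⟩ := mem_KK.1 hk
    rw [mem_Cab]
    have hb : (π ⟨k, mem_centralizer_singleton_iff.2 h1⟩ : Fi24) * b =
        b * π ⟨k, mem_centralizer_singleton_iff.2 h1⟩ := by
      obtain ⟨h4, h5⟩ := hcj k h1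
      have h6 : i * k * i⁻¹ = k := by rw [← h2]; group
      have h7 : (⟨i * k * i⁻¹, mem_centralizer_singleton_iff.2 h4⟩ : centralizer ({x} : Set G)) =
          ⟨k, mem_centralizer_singleton_iff.2 h1⟩ := Subtype.ext h6
      rw [h7] at h5
      exact eq_mul_inv_iff_mul_eq.1 h5
    have hab : (π ⟨k, mem_centralizer_singleton_iff.2 h1⟩ : Fi24) * (a * b) =
        a * b * π ⟨k, mem_centralizer_singleton_iff.2 h1⟩ := by
      have h4 : k * t * x = x * (k * t) := by rw [mul_assoc, htx, ← mul_assoc, h1, mul_assoc]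
      have h5 := hmul k t h1 htx h4
      have h6 := hmul t k htx h1 (by rw [← h3]; exact h4)
      have h7 : (⟨k * t, mem_centralizer_singleton_iff.2 h4⟩ : centralizer ({x} : Set G)) =
          ⟨t * k, mem_centralizer_singleton_iff.2 (by rw [← h3]; exact h4)⟩ := Subtype.ext h3
      rw [h7, h6, hτ] at h5
      exact h5.symm
    refine ⟨mem_commutator_iff.1 (π ⟨k, mem_centralizer_singleton_iff.2 h1⟩).2, ?_, hb⟩
    have h4 : (π ⟨k, mem_centralizer_singleton_iff.2 h1⟩ : Fi24) * a * b =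
        a * π ⟨k, mem_centralizer_singleton_iff.2 h1⟩ * b := by
      rw [mul_assoc, hab, mul_assoc, mul_assoc, hb]
    exact mul_right_cancel h4
  -- lifting elements of `Cab`
  have hlift : ∀ y ∈ Cab a b, ∃ (k : G) (hk : k ∈ KK x i t),
      (π ⟨k, mem_centralizer_singleton_iff.2 (mem_KK.1 hk).1⟩ : Fi24) = y := by
    intro y hy
    obtain ⟨hy1, hya, hyb⟩ := mem_Cab.1 hy
    obtain ⟨⟨g, hgm⟩, hg⟩ := D.surj ⟨y, mem_commutator_iff.2 hy1⟩
    have hgx := mem_centralizer_singleton_iff.1 hgm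
    have hgy : (π ⟨g, mem_centralizer_singleton_iff.2 hgx⟩ : Fi24) = y := congrArg Subtype.val hg
    obtain ⟨h4, h5⟩ := hcj g hgx
    rw [hgy, ← hyb, mul_inv_cancel_right] at h5
    obtain ⟨m, hm⟩ := hsame _ g h4 hgx (by rw [h5, hgy])
    have hxg : ∀ l : ℤ, g * x ^ l = x ^ l * g := fun l => (show Commute g x from hgx).zpow_right l
    have hkx : x ^ (2 * m) * g * x = x * (x ^ (2 * m) * g) := by
      rw [mul_assoc, hgx, ← mul_assoc, hxx, mul_assoc]
    have hky : (π ⟨x ^ (2 * m) * g, mem_centralizer_singleton_iff.2 hkx⟩ : Fi24) = y := by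
      rw [hmul _ g (hxx _) hgx hkx, (hker _ (hxx _)).2 ⟨_, rfl⟩, one_mul, hgy]
    have hki : x ^ (2 * m) * g * i = i * (x ^ (2 * m) * g) := by
      have h6 : i * (x ^ (2 * m) * g) * i⁻¹ = x ^ (2 * m) * g := by
        calc i * (x ^ (2 * m) * g) * i⁻¹ = (i * x ^ (2 * m) * i⁻¹) * (i * g * i⁻¹) := by group
          _ = (x ^ (2 * m))⁻¹ * (x ^ m * g) := by rw [hxi, hm]
          _ = x ^ (2 * m) * (x ^ (3 * (-m)) * g) := by
            rw [← mul_assoc, ← mul_assoc, ← zpow_neg, ← zpow_add, ← zpow_add]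
            congr 2
            ring
          _ = x ^ (2 * m) * g := by rw [h3k, one_mul]
      exact (mul_inv_eq_iff_eq_mul.1 h6).symm
    have hkt : x ^ (2 * m) * g * t = t * (x ^ (2 * m) * g) := by
      apply hct _ hkx
      rw [hky, ← mul_assoc, hya, mul_assoc, hyb, ← mul_assoc]
    exact ⟨x ^ (2 * m) * g, mem_KK.2 ⟨hkx, hki, hkt⟩, hky⟩
  let κ : ↥(KK x i t) →* ↥(Cab a b) :=
    { toFun := fun k => ⟨_, hKab k k.2⟩
      map_one' := Subtype.ext ((hker 1 (by rw [one_mul, mul_one])).2 ⟨0, (zpow_zero _).symm⟩)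
      map_mul' := fun k l => Subtype.ext (hmul k l (mem_KK.1 k.2).1 (mem_KK.1 l.2).1 (mem_KK.1 (k * l).2).1) }
  have hκs : Function.Surjective κ := by
    rintro ⟨y, hy⟩
    obtain ⟨k, hk, h⟩ := hlift y hy
    exact ⟨⟨k, hk⟩, Subtype.ext h⟩
  have hone : ∀ k : G, k * i = i * k → ∀ m : ℤ, k = x ^ m → k = 1 := by
    rintro _ hk m rfl
    apply zpow_eq_one D
    rw [← hxi m, ← hk]
    group
  -- the cover
  have hform : ∀ (c : G) (hc : c * x = x * c), (π ⟨c, mem_centralizer_singleton_iff.2 hc⟩ : Fi24) ∈ Cab a b →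
      ∃ (m : ℤ) (k : ↥(KK x i t)), c = x ^ m * k := by
    intro c hc h
    obtain ⟨k, hk, h1⟩ := hlift _ h
    obtain ⟨m, hm⟩ := hsame c k hc (mem_KK.1 hk).1 h1.symm
    exact ⟨m, ⟨k, hk⟩, hm⟩
  have hfs : ∀ (c : G) (hc : c * x = x * c), c * t = t * c →
      ((π ⟨c, mem_centralizer_singleton_iff.2 hc⟩ : Fi24) * a * (π ⟨c, mem_centralizer_singleton_iff.2 hc⟩ : Fi24)⁻¹ = a ∧
        (π ⟨c, mem_centralizer_singleton_iff.2 hc⟩ : Fi24) * b * (π ⟨c, mem_centralizer_singleton_iff.2 hc⟩ : Fi24)⁻¹ = b) ∨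
      ((π ⟨c, mem_centralizer_singleton_iff.2 hc⟩ : Fi24) * a * (π ⟨c, mem_centralizer_singleton_iff.2 hc⟩ : Fi24)⁻¹ = b ∧
        (π ⟨c, mem_centralizer_singleton_iff.2 hc⟩ : Fi24) * b * (π ⟨c, mem_centralizer_singleton_iff.2 hc⟩ : Fi24)⁻¹ = a) := by
    intro c hc hct'
    refine CTwoTab.FiTF.fix_or_swap P (t := π ⟨t, mem_centralizer_singleton_iff.2 htx⟩) hτ ?_
    rw [mem_centralizer_singleton_iff, ← map_mul, ← map_mul]
    congr 1
    exact Subtype.ext hct'
  refine ⟨i, P.π.comp κ, hii, hix, hit, P.lift.ext.surj.comp hκs, ?_, ?_, ?_⟩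
  · intro k
    obtain ⟨hkx, hki, hkt⟩ := mem_KK.1 k.2
    show P.π (κ k) = 1 ↔ _
    rw [P.lift.ext.ker]
    constructor
    · rintro (h | h)
      · left
        obtain ⟨m, hm⟩ := (hker k hkx).1 (congrArg Subtype.val h)
        exact hone k hki m hm
      · right
        have h1 : (π ⟨k, mem_centralizer_singleton_iff.2 hkx⟩ : Fi24) = π ⟨t, mem_centralizer_singleton_iff.2 htx⟩ := by
          rw [hτ, ← P.hz]
          exact congrArg Subtype.val h
        obtain ⟨m, hm⟩ := hsame k t hkx htx h1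
        have h2 : (k : G) * t⁻¹ = 1 := by
          refine hone _ ?_ m (by rw [hm, mul_inv_cancel_right])
          rw [htinv, mul_assoc, ← hit, ← mul_assoc, hki, mul_assoc]
        exact mul_inv_eq_one.1 h2
    · rintro (h | h)
      · left
        have : k = 1 := Subtype.ext h
        rw [this, map_one]
      · right
        apply Subtype.ext
        rw [P.hz, ← hτ]
        show (π ⟨k, mem_centralizer_singleton_iff.2 hkx⟩ : Fi24) = _
        congr 2
        exact Subtype.ext h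
  · intro c d hcx hct' hdx hdt hc hd
    have hcd : c * d * x = x * (c * d) := by rw [mul_assoc, hdx, ← mul_assoc, hcx, mul_assoc]
    apply hform _ hcd
    rw [mem_Cab]
    refine ⟨mem_commutator_iff.1 (π ⟨c * d, mem_centralizer_singleton_iff.2 hcd⟩).2, ?_⟩
    rw [hmul c d hcx hdx hcd]
    rcases hfs c hcx hct' with ⟨h1, h2⟩ | ⟨h1, h2⟩
    · exact absurd (hform c hcx (mem_Cab.2 ⟨mem_commutator_iff.1 (π ⟨c, mem_centralizer_singleton_iff.2 hcx⟩).2,
        mul_inv_eq_iff_eq_mul.1 h1, mul_inv_eq_iff_eq_mul.1 h2⟩)) hc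
    rcases hfs d hdx hdt with ⟨h3, h4⟩ | ⟨h3, h4⟩
    · exact absurd (hform d hdx (mem_Cab.2 ⟨mem_commutator_iff.1 (π ⟨d, mem_centralizer_singleton_iff.2 hdx⟩).2,
        mul_inv_eq_iff_eq_mul.1 h3, mul_inv_eq_iff_eq_mul.1 h4⟩)) hd
    rw [mul_inv_eq_iff_eq_mul] at h1 h2 h3 h4
    constructor
    · rw [mul_assoc, h3, ← mul_assoc, h2, mul_assoc]
    · rw [mul_assoc, h4, ← mul_assoc, h1, mul_assoc]
  · intro c hcx hct' hk
    apply hform c hcx
    have h1 : ∀ y ∈ Cab a b, (π ⟨c, mem_centralizer_singleton_iff.2 hcx⟩ : Fi24) * y *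
        (π ⟨c, mem_centralizer_singleton_iff.2 hcx⟩ : Fi24)⁻¹ = y ∨
        (π ⟨c, mem_centralizer_singleton_iff.2 hcx⟩ : Fi24) * y *
        (π ⟨c, mem_centralizer_singleton_iff.2 hcx⟩ : Fi24)⁻¹ = a * b * y := by
      intro y hy
      obtain ⟨k, hkm, rfl⟩ := hlift y hy
      have hkx := (mem_KK.1 hkm).1
      have hci : c⁻¹ * x = x * c⁻¹ := (show Commute c x from hcx).inv_left
      have hck : c * k * x = x * (c * k) := by rw [mul_assoc, hkx, ← mul_assoc, hcx, mul_assoc]
      have hckc : c * k * c⁻¹ * x = x * (c * k * c⁻¹) := by rw [mul_assoc, hci, ← mul_assoc, hck, mul_assoc]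
      rw [← hinv c hcx hci, ← hmul c k hcx hkx hck, ← hmul _ _ hck hci hckc]
      rcases hk ⟨k, hkm⟩ with h | h
      · left
        congr 2
        exact Subtype.ext h
      · right
        have htk : t * k * x = x * (t * k) := by rw [mul_assoc, hkx, ← mul_assoc, htx, mul_assoc]
        rw [← hτ, ← hmul t k htx hkx htk]
        congr 2
        exact Subtype.ext h
    have h2 : ∀ y ∈ Cab a b, (π ⟨c, mem_centralizer_singleton_iff.2 hcx⟩ : Fi24) * y *
        (π ⟨c, mem_centralizer_singleton_iff.2 hcx⟩ : Fi24)⁻¹ = y := fun y hy => OddHalf.D4.Spor.FiTF.fix_all P h1 hy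
    rcases OddHalf.D4.Spor.FiTF.mem_of_fix P (π ⟨c, mem_centralizer_singleton_iff.2 hcx⟩).2 h2 with h3 | h3
    · rw [h3]
      exact Subgroup.one_mem _
    · rw [h3, ← P.hz]
      exact P.z.2

end abs

/-! ### The frame -/

section frame

variable {G : Type*} [Group G] [Finite G] {t : G} {L : Type*} [Group L]

/-- the centre of `C(t)` -/
theorem center_cases (ht1 : t ≠ 1) (h2 : Nat.card ↥(center ↥(centralizer ({t} : Set G))) = 2)
    {z : ↥(centralizer ({t} : Set G))} : z ∈ center ↥(centralizer ({t} : Set G)) ↔ (z : G) = 1 ∨ (z : G) = t := by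
  have hself : t ∈ centralizer ({t} : Set G) := mem_centralizer_singleton_iff.2 rfl
  have htc : (⟨t, hself⟩ : ↥(centralizer ({t} : Set G))) ∈ center ↥(centralizer ({t} : Set G)) := by
    rw [Subgroup.mem_center_iff]
    intro g
    exact Subtype.ext (mem_centralizer_singleton_iff.1 g.2)
  constructor
  · intro hz
    by_contra hcon
    push Not at hcon
    have := Fintype.ofFinite ↥(center ↥(centralizer ({t} : Set G)))
    rw [Nat.card_eq_fintype_card] at h2
    have h3 : 2 < Fintype.card ↥(center ↥(centralizer ({t} : Set G))) := by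
      rw [Fintype.two_lt_card_iff]
      refine ⟨1, ⟨_, htc⟩, ⟨z, hz⟩, ?_, ?_, ?_⟩
      · intro h1
        have h2 : (1 : ↥(centralizer ({t} : Set G))) = ⟨t, hself⟩ := congrArg Subtype.val h1
        have h3 : (1 : G) = t := congrArg Subtype.val h2
        exact ht1 h3.symm
      · intro h1
        have h2 : (1 : ↥(centralizer ({t} : Set G))) = z := congrArg Subtype.val h1
        exact hcon.1 (congrArg Subtype.val h2).symm
      · intro h1
        have h2 : (⟨t, hself⟩ : ↥(centralizer ({t} : Set G))) = z := congrArg Subtype.val h1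
        exact hcon.2 (congrArg Subtype.val h2).symm
    omega
  · rintro (h | h)
    · have : z = 1 := Subtype.ext h
      rw [this]
      exact Subgroup.one_mem _
    · have : z = ⟨t, hself⟩ := Subtype.ext h
      rw [this]
      exact htc

theorem exists_frame (htt : t * t = 1) (ht1 : t ≠ 1) (h2 : Nat.card ↥(center ↥(centralizer ({t} : Set G))) = 2)
    (e : ↥(centralizer ({t} : Set G)) ⧸ center ↥(centralizer ({t} : Set G)) ≃* L) {x : ↥(centralizer ({t} : Set G))}
    {r : G} {π : centralizer ({(x : G)} : Set G) →* ↥(_root_.commutator Fi24)} (D : Data (x : G) r π)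
    (htx : t * x = x * t) {a b : Fi24} (P : TetFi24A.At a b)
    (hτ : (π ⟨t, mem_centralizer_singleton_iff.2 htx⟩ : Fi24) = a * b) :
    Nonempty (FiFrame (e (QuotientGroup.mk x))) := by
  obtain ⟨i, p, hii, hix, hit, hps, hpk, hcov, hout⟩ := exists_K D htx htt P hτ
  let C : Subgroup G := centralizer ({t} : Set G)
  let q0 : C →* L := e.toMonoidHom.comp (QuotientGroup.mk' (center ↥(centralizer ({t} : Set G))))
  have hq0s : Function.Surjective q0 := e.surjective.comp (QuotientGroup.mk'_surjective _)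
  have hq0k : ∀ c : C, q0 c = 1 ↔ (c : G) = 1 ∨ (c : G) = t := by
    intro c
    rw [← center_cases ht1 h2, ← QuotientGroup.eq_one_iff]
    show e _ = 1 ↔ _
    rw [map_eq_one_iff e e.injective]
    rfl
  let ι : ↥(KK (x : G) i t) →* C :=
    { toFun := fun k => ⟨k, mem_centralizer_singleton_iff.2 (mem_KK.1 k.2).2.2⟩
      map_one' := rfl
      map_mul' := fun _ _ => rfl }
  let q : ↥(KK (x : G) i t) →* L := q0.comp ι
  have hqp : ∀ k, q k = 1 ↔ p k = 1 := by
    intro k
    rw [hpk]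
    exact hq0k (ι k)
  let j : Spor.Fi22 →* L := p.liftOfSurjective hps ⟨q, fun k hk => (hqp k).2 hk⟩
  have hj : ∀ k, j (p k) = q k := fun k =>
    MonoidHom.liftOfRightInverse_comp_apply p _ _ ⟨q, fun k hk => (hqp k).2 hk⟩ k
  have hsx : e (QuotientGroup.mk x) = q0 x := rfl
  have hx3 : x ^ 3 = 1 := by
    apply Subtype.ext
    show (x : G) ^ 3 = 1
    rw [← D.ord, pow_orderOf_eq_one]
  -- lifting elements commuting with `s`
  have hlift : ∀ c : L, c * e (QuotientGroup.mk x) = e (QuotientGroup.mk x) * c → ∃ c' : C, q0 c' = c ∧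
      (c' : G) * x = x * c' := by
    intro c hc
    obtain ⟨c', rfl⟩ := hq0s c
    refine ⟨c', rfl, ?_⟩
    have h3 : (QuotientGroup.mk x : C ⧸ center ↥(centralizer ({t} : Set G))) * QuotientGroup.mk c' =
        QuotientGroup.mk c' * QuotientGroup.mk x := by
      apply e.injective
      rw [map_mul, map_mul]
      exact hc.symm
    have h4 := H979.CovLift.lift_comm (Z := center ↥(centralizer ({t} : Set G))) le_rfl h2 (by decide : Odd 3) hx3 h3
    exact (congrArg Subtype.val h4).symm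
  have hform : ∀ c' : C, (∃ (m : ℤ) (k : ↥(KK (x : G) i t)), (c' : G) = (x : G) ^ m * k) ↔
      ∃ (m : ℤ) (f : Spor.Fi22), q0 c' = (e (QuotientGroup.mk x)) ^ m * j f := by
    intro c'
    constructor
    · rintro ⟨m, k, h⟩
      refine ⟨m, p k, ?_⟩
      rw [hj]
      have h3 : c' = x ^ m * ι k := by
        apply Subtype.ext
        rw [Subgroup.coe_mul, Subgroup.coe_zpow]
        exact h
      rw [h3, map_mul, map_zpow]
      rfl
    · rintro ⟨m, f, h⟩
      obtain ⟨k, rfl⟩ := hps f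
      rw [hj, hsx] at h
      have h3 : q0 (c' * (x ^ m * ι k)⁻¹) = 1 := by
        rw [map_mul, map_inv, map_mul, map_zpow, h]
        exact mul_inv_cancel _
      have h4 : (c' : G) = ((c' * (x ^ m * ι k)⁻¹ : C) : G) * ((x : G) ^ m * k) := by
        have h5 : c' = (c' * (x ^ m * ι k)⁻¹) * (x ^ m * ι k) := (inv_mul_cancel_right _ _).symm
        have h6 : (c' : G) = ((c' * (x ^ m * ι k)⁻¹ : C) : G) * ((x ^ m * ι k : C) : G) := congrArg Subtype.val h5
        have h7 : ((x ^ m * ι k : C) : G) = (x : G) ^ m * k := by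
          rw [Subgroup.coe_mul, Subgroup.coe_zpow]
          rfl
        rwa [h7] at h6
      have htK : t ∈ KK (x : G) i t := mem_KK.2 ⟨htx, hit.symm, rfl⟩
      rcases (hq0k _).1 h3 with h5 | h5
      · rw [h5, one_mul] at h4
        exact ⟨m, k, h4⟩
      · rw [h5] at h4
        refine ⟨m, ⟨t, htK⟩ * k, ?_⟩
        rw [h4, Subgroup.coe_mul, ← mul_assoc, (show Commute t (x : G) from htx).zpow_right m, mul_assoc]
  have htx' : ∀ c' : C, (c' : G) * t = t * c' := fun c' => mem_centralizer_singleton_iff.1 c'.2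
  refine ⟨{ j := j, inj := ?_, comm := ?_, i := q0 ⟨i, mem_centralizer_singleton_iff.2 hit⟩, inv := ?_, icomm := ?_,
            cover := ?_, out := ?_ }⟩
  · rw [injective_iff_map_eq_one]
    intro f hf
    obtain ⟨k, rfl⟩ := hps f
    rw [hj] at hf
    exact (hqp k).1 hf
  · intro f
    obtain ⟨k, rfl⟩ := hps f
    rw [hj, hsx]
    show q0 (ι k) * q0 x = q0 x * q0 (ι k)
    rw [← map_mul, ← map_mul]
    congr 1
    exact Subtype.ext (mem_KK.1 k.2).1
  · rw [hsx, ← map_inv, ← map_mul, ← map_mul, ← map_inv]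
    congr 1
    exact Subtype.ext hix
  · intro f
    obtain ⟨k, rfl⟩ := hps f
    rw [hj]
    show q0 _ * q0 (ι k) = q0 (ι k) * q0 _
    rw [← map_mul, ← map_mul]
    congr 1
    exact Subtype.ext (mem_KK.1 k.2).2.1.symm
  · intro c d hc hd hcS hdS
    obtain ⟨c', rfl, hc'⟩ := hlift c hc
    obtain ⟨d', rfl, hd'⟩ := hlift d hd
    rw [← map_mul]
    rw [← hform] at hcS hdS ⊢
    rw [Subgroup.coe_mul]
    exact hcov _ _ hc' (htx' c') hd' (htx' d') hcS hdS
  · intro c hc hcj
    obtain ⟨c', rfl, hc'⟩ := hlift c hc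
    rw [← hform]
    refine hout _ hc' (htx' c') fun k => ?_
    have h3 := hcj (p k)
    rw [hj] at h3
    have h4 : q0 (c' * ι k * c'⁻¹ * (ι k)⁻¹) = 1 := by
      rw [map_mul, map_mul, map_mul, map_inv, map_inv]
      have h5 : q0 c' * q0 (ι k) = q0 (ι k) * q0 c' := h3
      rw [h5]
      group
    have h5 : (c' : G) * k * (c' : G)⁻¹ = ((c' * ι k * c'⁻¹ * (ι k)⁻¹ : C) : G) * k := by
      show _ = (c' : G) * k * (c' : G)⁻¹ * (k : G)⁻¹ * k
      group
    rcases (hq0k _).1 h4 with h6 | h6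
    · left
      rw [h5, h6, one_mul]
    · right
      rw [h5, h6]

end frame

end Cfsg.Agent.H480.Ore
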