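import Cfsg.Agent.H323.FiOut
import Cfsg.Agent.H647.SpF.Fi22Main
import Cfsg.Agent.CTwoTab.Fi22

/-!
# Outer automorphisms of `Fi22` of 2-power order (helper480)

`outer_le` : they fix at most `1226244096` elements.
-/

set_option autoImplicit false

namespace Cfsg.Agent.H480.Ore.Fi22Out

open Subgroup Cfsg
open Cfsg.Agent.LThreeFi22 Cfsg.Agent.R01.FiFusion Cfsg.Agent.R01.FiFacts
open Cfsg.Agent.H647.SpF.Fi22 (ctx0 orbit_le card_cent_tri)
open Cfsg.Agent.OddHalf.NI3.Ex.FiRow.Base (T kt)
open Cfsg.Agent.H833.Flip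
open Cfsg.Agent.Fischer.Fi22PtsRep (gen gen_sq)
open Cfsg.Agent.H836.EightPts (Cs mem_Cs)
open Cfsg.Agent.H833.SixPts (Ct mem_Ct tt)

/-! ### Centralizers of the involutions which are not transpositions -/

theorem card_two {a b : Spor.Fi22} (ha : a ∈ T) (hb : b ∈ T) (hne : a ≠ b) (hab : a * b = b * a) :
    Nat.card ↥(centralizer ({a} : Set Spor.Fi22) ⊓ centralizer ({b} : Set Spor.Fi22)) = 26542080 := by
  have C := ctx0
  have := C.finite
  have h1 := orbit_card (centralizer ({a} : Set Spor.Fi22)) b (S := {c | c ∈ T ∧ c ≠ a ∧ a * c = c * a}) (by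
    intro x
    constructor
    · rintro ⟨hx, hxa, hax⟩
      obtain ⟨g, hg1, hg2⟩ := C.transC a ha b hb a ha x hx hne hxa.symm hab hax
      exact ⟨g, mem_centralizer_singleton_iff.2 (mul_inv_eq_iff_eq_mul.1 hg1), hg2.symm⟩
    · rintro ⟨g, hg, rfl⟩
      have h2 : g * a * g⁻¹ = a := mul_inv_eq_iff_eq_mul.2 (mem_centralizer_singleton_iff.1 hg)
      refine ⟨C.conj b hb g, fun h => hne ?_, ?_⟩
      · have h3 : g * b * g⁻¹ = g * a * g⁻¹ := h.trans h2.symm
        exact (mul_left_cancel (mul_right_cancel h3)).symm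
      · have h3 := (conj_comm_iff g a b).2 hab
        rw [h2] at h3
        exact h3)
  have h2 := C.link a ha
  rw [C.card_cent ha] at h1
  have h3 : {c | c ∈ T ∧ c ≠ a ∧ a * c = c * a}.ncard = 693 := h2
  rw [h3] at h1
  omega

/-- the number of elements commuting with an involution which is not a transposition -/
theorem card_invol {w : Spor.Fi22} (hw : w * w = 1) (hw1 : w ≠ 1) (hwT : w ∉ T) :
    Nat.card ↥(centralizer ({w} : Set Spor.Fi22)) ≤ 318504960 := by
  have C := ctx0
  have := C.finite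
  have Fa := Cfsg.Agent.R08.AutT.tFacts
  rcases Cfsg.Agent.OddHalf.D4.Spor.Fi22.inv_cases hw hw1 with
    h1 | ⟨a, ha, b, hb, hab, cab, rfl⟩ | ⟨a, b, c, h1, rfl⟩
  · exact absurd h1 hwT
  · have key : ∀ g ∈ centralizer ({a * b} : Set Spor.Fi22), g * a * g⁻¹ ∈ ({a, b} : Set Spor.Fi22) := by
      intro g hg
      rcases C.cz a ha b hb hab cab g (mem_centralizer_singleton_iff.1 hg) with ⟨h, -⟩ | ⟨h, -⟩
      · exact Or.inl (mul_inv_eq_iff_eq_mul.2 h)
      · exact Or.inr h
    obtain ⟨n, hn, hc⟩ := orbit_le (centralizer ({a * b} : Set Spor.Fi22)) a (N := 2)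
      ((Set.ncard_insert_le _ _).trans (by rw [Set.ncard_singleton])) key
    have h2 : Nat.card ↥(centralizer ({a * b} : Set Spor.Fi22) ⊓ centralizer ({a} : Set Spor.Fi22)) ≤ 26542080 := by
      rw [← card_two ha hb hab cab]
      refine card_le_of_le ?_
      rintro g ⟨hg, hga⟩
      refine ⟨hga, mem_centralizer_singleton_iff.2 ?_⟩
      have hg' := mem_centralizer_singleton_iff.1 hg
      have hga' := mem_centralizer_singleton_iff.1 hga
      have h3 : a * (g * b) = a * (b * g) := by
        rw [← mul_assoc, ← hga', mul_assoc, hg', mul_assoc]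
      exact mul_left_cancel h3
    calc Nat.card ↥(centralizer ({a * b} : Set Spor.Fi22)) = n * _ := hc.symm
      _ ≤ 2 * 26542080 := Nat.mul_le_mul hn h2
      _ ≤ 318504960 := by norm_num
  · obtain ⟨a', b', c', H⟩ := Fa.hex a b c h1
    -- the orbit of `a` under `C(w)` is contained in the hexad
    have key : ∀ g ∈ centralizer ({a * b * c} : Set Spor.Fi22),
        g * a * g⁻¹ ∈ ({a, b, c, a', b', c'} : Set Spor.Fi22) := by
      intro g hg
      have hg' := mem_centralizer_singleton_iff.1 hg
      by_contra hcon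
      simp only [Set.mem_insert_iff, Set.mem_singleton_iff, not_or] at hcon
      obtain ⟨n1, n2, n3, n4, n5, n6⟩ := hcon
      have tri := fun (t : Spor.Fi22) (htT : t ∈ Cfsg.Agent.R08.AutT.T) =>
        Cfsg.Agent.OddHalf.D4.Spor.Fi22.comm_tri Cfsg.Agent.StdFi22.MainFi22.bas h1 htT
      have aw : a * (a * b * c) = a * b * c * a := by
        calc a * (a * b * c) = a * (a * (b * c)) := by group
          _ = a * (a * (c * b)) := by rw [h1.cyw]
          _ = a * ((a * c) * b) := by group
          _ = a * ((c * a) * b) := by rw [h1.cxw]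
          _ = (a * c) * (a * b) := by group
          _ = (a * c) * (b * a) := by rw [h1.cxy]
          _ = a * (c * b) * a := by group
          _ = a * (b * c) * a := by rw [h1.cyw]
          _ = _ := by group
      have gc : g⁻¹ * (a * b * c) = a * b * c * g⁻¹ := by
        calc g⁻¹ * (a * b * c) = g⁻¹ * (a * b * c * g) * g⁻¹ := by group
          _ = g⁻¹ * (g * (a * b * c)) * g⁻¹ := by rw [hg']
          _ = _ := by group
      have xw : g * a * g⁻¹ * (a * b * c) = a * b * c * (g * a * g⁻¹) := by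
        calc g * a * g⁻¹ * (a * b * c) = g * a * (g⁻¹ * (a * b * c)) := by group
          _ = g * (a * (a * b * c)) * g⁻¹ := by rw [gc]; group
          _ = g * (a * b * c) * a * g⁻¹ := by rw [aw]; group
          _ = _ := by rw [hg']; group
      have xT : g * a * g⁻¹ ∈ Cfsg.Agent.R08.AutT.T := C.conj a h1.mx g
      obtain ⟨xa, xb, xc⟩ := tri _ xT xw
      obtain ⟨t, htT, ta, tb, tc, tn⟩ := Cfsg.Agent.OddHalf.D4.Spor.Fi22.exists_ncomm
        Cfsg.Agent.StdFi22.MainFi22.bas H xT xa xb xc n1 n2 n3 n4 n5 n6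
      apply tn
      have tw : t * (a * b * c) = a * b * c * t := by
        calc t * (a * b * c) = t * a * b * c := by group
          _ = a * (t * b) * c := by rw [ta]; group
          _ = a * b * (t * c) := by rw [tb]; group
          _ = _ := by rw [tc]; group
      have k1 : g⁻¹ * t * g ∈ Cfsg.Agent.R08.AutT.T := by
        have := C.conj t htT g⁻¹
        rwa [inv_inv] at this
      have k2 : g⁻¹ * t * g * (a * b * c) = a * b * c * (g⁻¹ * t * g) := by
        calc g⁻¹ * t * g * (a * b * c) = g⁻¹ * t * (g * (a * b * c)) := by group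
          _ = g⁻¹ * (t * (a * b * c)) * g := by rw [hg']; group
          _ = (g⁻¹ * (a * b * c)) * t * g := by rw [tw]; group
          _ = _ := by rw [gc]; group
      have k3 := (tri _ k1 k2).1
      calc t * (g * a * g⁻¹) = g * ((g⁻¹ * t * g) * a) * g⁻¹ := by group
        _ = g * (a * (g⁻¹ * t * g)) * g⁻¹ := by rw [k3]
        _ = _ := by group
    have h6 : ({a, b, c, a', b', c'} : Set Spor.Fi22).ncard ≤ 6 := by
      refine (Set.ncard_insert_le _ _).trans (Nat.succ_le_succ ?_)
      refine (Set.ncard_insert_le _ _).trans (Nat.succ_le_succ ?_)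
      refine (Set.ncard_insert_le _ _).trans (Nat.succ_le_succ ?_)
      refine (Set.ncard_insert_le _ _).trans (Nat.succ_le_succ ?_)
      refine (Set.ncard_insert_le _ _).trans (Nat.succ_le_succ ?_)
      rw [Set.ncard_singleton]
    obtain ⟨n, hn, hc⟩ := orbit_le (centralizer ({a * b * c} : Set Spor.Fi22)) a h6 key
    -- the second step
    have key2 : ∀ g ∈ centralizer ({a * b * c} : Set Spor.Fi22) ⊓ centralizer ({a} : Set Spor.Fi22),
        g * b * g⁻¹ ∈ ({b, c} : Set Spor.Fi22) := by
      rintro g ⟨hg, hga⟩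
      have hg' := mem_centralizer_singleton_iff.1 hg
      have hga' := mem_centralizer_singleton_iff.1 hga
      have h2 : g * (b * c) = b * c * g := by
        have h3 : a * (g * (b * c)) = a * (b * c * g) := by
          calc a * (g * (b * c)) = (g * a) * (b * c) := by rw [hga']; group
            _ = g * (a * b * c) := by group
            _ = _ := by rw [hg']; group
        exact mul_left_cancel h3
      rcases C.cz b h1.my c h1.mw h1.yw h1.cyw g h2 with ⟨h, -⟩ | ⟨h, -⟩
      · exact Or.inl (mul_inv_eq_iff_eq_mul.2 h)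
      · exact Or.inr h
    obtain ⟨n', hn', hc'⟩ := orbit_le (centralizer ({a * b * c} : Set Spor.Fi22) ⊓ centralizer ({a} : Set Spor.Fi22)) b
      (N := 2) ((Set.ncard_insert_le _ _).trans (by rw [Set.ncard_singleton])) key2
    have hle : Nat.card ↥(centralizer ({a * b * c} : Set Spor.Fi22) ⊓ centralizer ({a} : Set Spor.Fi22) ⊓
        centralizer ({b} : Set Spor.Fi22)) ≤ 26542080 := by
      rw [← card_two h1.mx h1.my h1.xy h1.cxy]
      refine card_le_of_le ?_
      rintro g ⟨⟨-, hga⟩, hgb⟩
      exact ⟨hga, hgb⟩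
    calc Nat.card ↥(centralizer ({a * b * c} : Set Spor.Fi22)) = n * (n' * _) := by rw [hc', hc]
      _ ≤ 6 * (2 * 26542080) := Nat.mul_le_mul hn (Nat.mul_le_mul hn' hle)
      _ ≤ 318504960 := by norm_num

/-! ### Proper subgroups of the centralizer of a transposition -/

theorem le_of_proper {d : Spor.Fi22} (hd : d ∈ T) {H : Subgroup Spor.Fi22}
    (hle : H ≤ centralizer ({d} : Set Spor.Fi22)) (hne : H ≠ centralizer ({d} : Set Spor.Fi22)) :
    Nat.card H ≤ 1226244096 := by
  have C := ctx0
  have := C.finite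
  obtain ⟨b, c, ht⟩ := Cfsg.Agent.StdFi22.MainFi22.bas.exists_tri hd
  obtain ⟨R, F⟩ := Cfsg.Agent.CTwoTab.Fi22.facts hd ht.my ht.xy ht.cxy
  have hq := F.quasi
  have hZ := Cfsg.Agent.CTwoTab.Fi22.card_center F
  have hD := Cfsg.Agent.CTwoTab.Fi22.card_cent F
  have h1 := (H.subgroupOf (centralizer ({d} : Set Spor.Fi22))).card_mul_index
  rw [Nat.card_congr (subgroupOfEquivOfLe hle).toEquiv, hD] at h1
  have hR : H.subgroupOf (centralizer ({d} : Set Spor.Fi22)) ≠ ⊤ := by
    rw [Ne, subgroupOf_eq_top]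
    exact fun h => hne (le_antisymm hle h)
  generalize H.subgroupOf (centralizer ({d} : Set Spor.Fi22)) = R' at *
  generalize hDD : centralizer ({d} : Set Spor.Fi22) = D at *
  let φ : ↥D →* Equiv.Perm (↥D ⧸ R') := MulAction.toPermHom ↥D (↥D ⧸ R')
  have hker : φ.ker = R'.normalCore := (Subgroup.normalCore_eq_ker R').symm
  have h2 : Nat.card φ.ker ∣ 2 := by
    rcases Cfsg.Agent.SignalizersComponents.Components.quasisimple_normal hq φ.ker inferInstance with h3 | h3
    · exfalso
      apply hR
      rw [eq_top_iff, ← h3, hker]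
      exact R'.normalCore_le
    · rw [← hZ]
      exact card_dvd_of_le h3
  have h3 : Nat.card φ.ker * φ.ker.index = 18393661440 := by rw [φ.ker.card_mul_index, hD]
  have h4 : φ.ker.index ∣ R'.index.factorial := by
    rw [Subgroup.index_ker]
    refine (Subgroup.card_subgroup_dvd_card φ.range).trans ?_
    rw [Nat.card_perm]
    exact dvd_rfl
  have h5 : 9196830720 ∣ R'.index.factorial := by
    refine Dvd.dvd.trans ?_ h4
    rcases (Nat.dvd_prime Nat.prime_two).1 h2 with h6 | h6
    · rw [h6, one_mul] at h3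
      rw [h3]
      norm_num
    · rw [h6] at h3
      have : φ.ker.index = 9196830720 := by omega
      rw [this]
  have h6 : 15 ≤ R'.index := by
    by_contra h7
    have h8 := h5.trans (Nat.factorial_dvd_factorial (show R'.index ≤ 14 by omega))
    revert h8
    decide +kernel
  have h7 : Nat.card H * 15 ≤ 18393661440 := by
    rw [← h1]
    exact Nat.mul_le_mul_left _ h6
  omega

/-! ### Outer automorphisms -/

open Cfsg.Agent.H323.FiOut (fix_flip) in
theorem outer_two {α : MulAut Spor.Fi22} (h2 : α * α = 1) (ho : ¬ ∃ g, α = MulAut.conj g) :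
    Nat.card ↥(fixedSubgroup α) ≤ 1226244096 := by
  have hfin : Finite Spor.Fi22 := ctx0.finite
  have h3 : α ≠ 1 := by
    rintro rfl
    exact ho ⟨1, by rw [map_one]⟩
  have ho2 : orderOf α = 2 := orderOf_eq_prime (by rw [pow_two, h2]) h3
  have key : ∀ β : MulAut Spor.Fi22, IsConj α β → Nat.card ↥(fixedSubgroup β) ≤ 1226244096 →
      Nat.card ↥(fixedSubgroup α) ≤ 1226244096 := by
    intro β hc hβ
    obtain ⟨γ, rfl⟩ := isConj_iff.1 hc
    rw [Nat.card_congr (CpAut.fixEquiv γ α).toEquiv]
    exact hβ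
  rcases Cfsg.Agent.H830.OutInv22.outer_inv α ho2 (fun ⟨g, hg⟩ => ho ⟨g, hg.symm⟩) with h | h | h
  · refine key _ h ?_
    rw [fix_flip, Cfsg.Agent.H836.EightMain.card_Cs]
    norm_num
  · refine key _ h ?_
    have hfix : fixedSubgroup (flipA * MulAut.conj (gen .d)) = Cs ⊓ centralizer ({gen .d} : Set Spor.Fi22) := by
      ext g
      exact Cfsg.Agent.H833.CaseD.fixed_iff g
    obtain ⟨f⟩ := Cfsg.Agent.H833.CaseD.iso
    rw [hfix, Nat.card_congr f.toEquiv, Nat.card_prod, Cfsg.Agent.H833.CaseD.card_PSp]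
    simp
  · refine key tt h ?_
    have hfix : fixedSubgroup tt = Ct := by
      ext g
      exact Iff.rfl
    rw [hfix, Cfsg.Agent.H833.SixEnd.card_Ct]
    norm_num

theorem center_triv {g : Spor.Fi22} (h : ∀ x : Spor.Fi22, g * x = x * g) : g = 1 :=
  Cfsg.Agent.StdFi22.MainFi22.center_eq g h

/-- **Outer automorphisms of 2-power order.** -/
theorem outer_le {α : MulAut Spor.Fi22} {k : ℕ} (hk : α ^ 2 ^ k = 1) (ho : ¬ ∃ g, α = MulAut.conj g) :
    Nat.card ↥(fixedSubgroup α) ≤ 1226244096 := by
  have C := ctx0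
  have hfin : Finite Spor.Fi22 := C.finite
  -- the largest `j` with `α ^ 2 ^ j ≠ 1`
  induction k with
  | zero =>
    exfalso
    rw [pow_zero, pow_one] at hk
    exact ho ⟨1, by rw [hk, map_one]⟩
  | succ j ih =>
    by_cases h1 : α ^ 2 ^ j = 1
    · exact ih h1
    by_cases hj : j = 0
    · subst hj
      refine outer_two ?_ ho
      rw [← pow_two]
      exact hk
    -- the power is inner
    obtain ⟨i, rfl⟩ : ∃ i, j = i + 1 := ⟨j - 1, by omega⟩
    obtain ⟨g, hg⟩ : ∃ g : Spor.Fi22, α * α = MulAut.conj g :=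
      Cfsg.Agent.OddHalf.Table.OutFi22.mul_outer α α (fun x hx => ho ⟨x, hx⟩) (fun x hx => ho ⟨x, hx⟩)
    obtain ⟨u, hu⟩ : ∃ u : Spor.Fi22, α ^ 2 ^ (i + 1) = MulAut.conj u := by
      refine ⟨g ^ 2 ^ i, ?_⟩
      rw [map_pow, ← hg, ← pow_two, ← pow_mul, ← pow_succ']
    have hu1 : u ≠ 1 := by
      rintro rfl
      exact h1 (by rw [hu, map_one])
    have huu : u * u = 1 := by
      apply center_triv
      intro x
      have h2 : MulAut.conj (u * u) = (1 : MulAut Spor.Fi22) := by
        rw [map_mul, ← hu, ← pow_two, ← pow_mul, ← pow_succ]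
        exact hk
      have h3 := DFunLike.congr_fun h2 x
      rw [MulAut.conj_apply] at h3
      exact mul_inv_eq_iff_eq_mul.1 h3
    -- `α` fixes `u`
    have hαu : α u = u := by
      have h2 : α * MulAut.conj u = MulAut.conj u * α := by
        rw [← hu]
        exact (Commute.refl α).pow_right _
      have h5 : u⁻¹ * α u = 1 := by
        apply center_triv
        intro y
        obtain ⟨w, rfl⟩ := α.surjective y
        have h6 := DFunLike.congr_fun h2 w
        change α (u * w * u⁻¹) = u * α w * u⁻¹ at h6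
        rw [map_mul, map_mul, map_inv] at h6
        have h7 : α u * α w = u * α w * u⁻¹ * α u := by rw [← h6]; group
        calc u⁻¹ * α u * α w = u⁻¹ * (α u * α w) := by group
          _ = α w * (u⁻¹ * α u) := by rw [h7]; group
      calc α u = u * (u⁻¹ * α u) := by group
        _ = u := by rw [h5, mul_one]
    have hle : fixedSubgroup α ≤ centralizer ({u} : Set Spor.Fi22) := by
      intro x hx
      have hx' : α x = x := hx
      have h2 : ∀ n : ℕ, (α ^ n) x = x := by
        intro n
        induction n with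
        | zero => rfl
        | succ n ihn => rw [pow_succ, MulAut.mul_apply, hx', ihn]
      have h3 := h2 (2 ^ (i + 1))
      rw [hu, MulAut.conj_apply] at h3
      rw [mem_centralizer_singleton_iff]
      exact (mul_inv_eq_iff_eq_mul.1 h3).symm
    by_cases huT : u ∈ T
    · refine le_of_proper huT hle ?_
      intro heq
      have h2 : ∀ y ∈ T, y * u = u * y → α y = y := by
        intro y _ hy
        have h3 : y ∈ fixedSubgroup α := by
          rw [heq, mem_centralizer_singleton_iff]
          exact hy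
        exact h3
      rcases kt.cJ huT _ h2 with h3 | h3
      · exact ho ⟨1, by rw [h3, map_one]⟩
      · exact ho ⟨u, h3⟩
    · exact (card_le_of_le hle).trans ((card_invol huu hu1 huT).trans (by norm_num))

/-- the same for a group isomorphic to `Fi22` -/
theorem outer_le_of_equiv {K : Type*} [Group K] (e : K ≃* Spor.Fi22) {α : MulAut K} {k : ℕ} (hk : α ^ 2 ^ k = 1)
    (ho : ¬ ∃ g, α = MulAut.conj g) : Nat.card ↥(fixedSubgroup α) ≤ 1226244096 := by
  rw [Nat.card_congr (CpAut.fixEquiv e α).toEquiv]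
  refine outer_le (k := k) ?_ ?_
  · rw [← map_pow, hk, map_one]
  · rintro ⟨g, hg⟩
    apply ho
    refine ⟨e.symm g, ?_⟩
    ext b
    have h4 := DFunLike.congr_fun hg (e b)
    change e (α (e.symm (e b))) = g * e b * g⁻¹ at h4
    rw [e.symm_apply_apply] at h4
    apply e.injective
    rw [h4, MulAut.conj_apply, map_mul, map_mul, map_inv, e.apply_symm_apply]

end Cfsg.Agent.H480.Ore.Fi22Out
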