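import Cfsg.Agent.H480.Ore.Fi22Out
import Cfsg.Agent.H777.Ore.Base

/-!
# Elements of order three with centralizer `(3 × Fi22).2` (helper480)

`FiFrame s` : `s` commutes with a subgroup `j(Fi22)`, an element inverting `s` centralizes `j(Fi22)`, `⟨s⟩ × j(Fi22)` has
index at most two in `C(s)` and contains the elements of `C(s)` centralizing `j(Fi22)`. Then, for `s` of order three,

* `no_cube` : `s` is no cube;
* `isC_or_card` : for a 2-element `u` commuting with `s` : `u s` is a commutator or `|C(u s)| ≤ 7357464576`.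
-/

set_option autoImplicit false

namespace Cfsg.Agent.H480.Ore

open Subgroup Cfsg Cfsg.Agent.H777.Ore
open scoped commutatorElement

structure FiFrame {L : Type*} [Group L] (s : L) where
  j : Spor.Fi22 →* L
  inj : Function.Injective j
  comm : ∀ f, j f * s = s * j f
  i : L
  inv : i * s * i⁻¹ = s⁻¹
  icomm : ∀ f, i * j f = j f * i
  cover : ∀ c d : L, c * s = s * c → d * s = s * d → (¬ ∃ (k : ℤ) (f : Spor.Fi22), c = s ^ k * j f) →
    (¬ ∃ (k : ℤ) (f : Spor.Fi22), d = s ^ k * j f) → ∃ (k : ℤ) (f : Spor.Fi22), c * d = s ^ k * j f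
  out : ∀ c : L, c * s = s * c → (∀ f, c * j f = j f * c) → ∃ (k : ℤ) (f : Spor.Fi22), c = s ^ k * j f

namespace FiFrame

variable {L : Type*} [Group L] {s : L} (D : FiFrame s)

/-- `⟨s⟩ × j(Fi22)` -/
def S : Subgroup L where
  carrier := {c | ∃ (k : ℤ) (f : Spor.Fi22), c = s ^ k * D.j f}
  one_mem' := ⟨0, 1, by rw [zpow_zero, map_one, mul_one]⟩
  mul_mem' := by
    rintro _ _ ⟨k, f, rfl⟩ ⟨l, g, rfl⟩
    refine ⟨k + l, f * g, ?_⟩
    have h1 : D.j f * s ^ l = s ^ l * D.j f := (show Commute (D.j f) s from D.comm f).zpow_right l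
    rw [zpow_add, map_mul]
    calc s ^ k * D.j f * (s ^ l * D.j g) = s ^ k * (D.j f * s ^ l) * D.j g := by group
      _ = _ := by rw [h1]; group
  inv_mem' := by
    rintro _ ⟨k, f, rfl⟩
    refine ⟨-k, f⁻¹, ?_⟩
    have h1 : D.j f⁻¹ * s ^ (-k) = s ^ (-k) * D.j f⁻¹ := (show Commute (D.j f⁻¹) s from D.comm _).zpow_right _
    rw [← h1, mul_inv_rev, map_inv, zpow_neg]

theorem mem_S {c : L} : c ∈ D.S ↔ ∃ (k : ℤ) (f : Spor.Fi22), c = s ^ k * D.j f := Iff.rfl

theorem j_mem (f : Spor.Fi22) : D.j f ∈ D.S := ⟨0, f, by rw [zpow_zero, one_mul]⟩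

theorem s_mem : s ∈ D.S := ⟨1, 1, by rw [zpow_one, map_one, mul_one]⟩

theorem comm_S {c : L} (hc : c ∈ D.S) : c * s = s * c := by
  obtain ⟨k, f, rfl⟩ := hc
  have h1 := D.comm f
  calc s ^ k * D.j f * s = s ^ k * (D.j f * s) := by group
    _ = s ^ k * (s * D.j f) := by rw [h1]
    _ = s * (s ^ k * D.j f) := by group

theorem cover' {c d : L} (hc : c * s = s * c) (hd : d * s = s * d) (hcS : c ∉ D.S) (hdS : d ∉ D.S) : c * d ∈ D.S :=
  D.cover c d hc hd hcS hdS

/-- a power of `s` in `j(Fi22)` is trivial -/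
theorem eq_one_of_pow {k : ℤ} {f : Spor.Fi22} (h : s ^ k = D.j f) : f = 1 := by
  apply Fi22Out.center_triv
  intro x
  apply D.inj
  rw [map_mul, map_mul, ← h]
  exact ((show Commute (D.j x) s from D.comm x).zpow_right k).symm

variable (hs : orderOf s = 3)
include D hs

omit D in
theorem zpow_three (k : ℤ) : s ^ (3 * k) = 1 := by
  rw [zpow_mul, show ((3 : ℤ)) = ((3 : ℕ) : ℤ) by norm_num, zpow_natCast, ← hs, pow_orderOf_eq_one, one_zpow]

theorem no_cube (y : L) (hy : y * y * y = s) : False := by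
  have hys : y * s = s * y := by rw [← hy]; group
  have hs1 : s ≠ 1 := by
    rintro rfl
    rw [orderOf_one] at hs
    norm_num at hs
  have cube : ∀ c : L, c ∈ D.S → ∃ f, c * c * c = D.j f := by
    rintro _ ⟨k, f, rfl⟩
    refine ⟨f ^ 3, ?_⟩
    have h1 : Commute (s ^ k) (D.j f) := ((show Commute (D.j f) s from D.comm f).zpow_right k).symm
    have h2 : ∀ c : L, c * c * c = c ^ 3 := fun c => by rw [pow_succ, pow_two]
    have h3 := zpow_three hs k
    rw [mul_comm, zpow_mul, show ((3 : ℤ)) = ((3 : ℕ) : ℤ) by norm_num, zpow_natCast] at h3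
    rw [h2, h1.mul_pow, h3, one_mul, map_pow]
  by_cases hyS : y ∈ D.S
  · obtain ⟨f, hf⟩ := cube y hyS
    rw [hy] at hf
    have h1 := D.eq_one_of_pow (k := 1) (by rw [zpow_one]; exact hf)
    rw [h1, map_one] at hf
    exact hs1 hf
  · obtain ⟨f, hf⟩ := cube (y * y) (D.cover' hys hys hyS hyS)
    have h2 : s ^ (2 : ℤ) = D.j f := by
      rw [← hf, zpow_two, ← hy]
      group
    have h1 := D.eq_one_of_pow h2
    rw [h1, map_one] at h2
    apply hs1
    have h3 := zpow_three hs 1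
    calc s = s ^ ((3 : ℤ) * 1) * (s ^ (2 : ℤ))⁻¹ := by group
      _ = 1 := by rw [h3, h2, inv_one, mul_one]

/-- a 2-element of `⟨s⟩ × j(Fi22)` is in `j(Fi22)` -/
theorem two_mem {u : L} {n : ℕ} (hn : u ^ 2 ^ n = 1) (huS : u ∈ D.S) : ∃ f, u = D.j f := by
  obtain ⟨k, f, rfl⟩ := huS
  refine ⟨f, ?_⟩
  have h1 : Commute (s ^ k) (D.j f) := ((show Commute (D.j f) s from D.comm f).zpow_right k).symm
  rw [h1.mul_pow, ← map_pow] at hn
  have h2 : s ^ (-(k * (2 ^ n : ℕ))) = D.j (f ^ 2 ^ n) := by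
    rw [zpow_neg, zpow_mul, zpow_natCast]
    exact (eq_inv_of_mul_eq_one_right hn).symm
  have h3 := D.eq_one_of_pow h2
  rw [h3, map_one, mul_one, ← zpow_natCast, ← zpow_mul] at hn
  have h4 : (3 : ℤ) ∣ k * ((2 ^ n : ℕ) : ℤ) := by
    have := orderOf_dvd_iff_zpow_eq_one.2 hn
    rwa [hs] at this
  have h5 : (3 : ℤ) ∣ k := by
    refine IsCoprime.dvd_of_dvd_mul_right ?_ h4
    push_cast
    exact IsCoprime.pow_right (by norm_num)
  obtain ⟨m, rfl⟩ := h5
  rw [zpow_three hs, one_mul]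

/-- **T7** -/
theorem isC_j (hA : AllC Spor.Fi22) (f : Spor.Fi22) : IsC (D.j f * s) := by
  obtain ⟨a, b, hab⟩ := hA f
  have h1 : s = D.i * s * D.i⁻¹ * s⁻¹ := by
    have h3 := zpow_three hs 1
    rw [D.inv]
    calc s = s ^ ((3 : ℤ) * 1) * (s⁻¹ * s⁻¹) := by group
      _ = s⁻¹ * s⁻¹ := by rw [h3, one_mul]
  refine isC_mul_of_commute (a := D.j a) (b := D.j b) (c := D.i) (d := s) ?_ h1 ?_ ?_ ?_ ?_
  · rw [hab]
    simp only [map_mul, map_inv]
  · exact (D.icomm a).symm
  · exact D.comm a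
  · exact (D.icomm b).symm
  · exact D.comm b

/-! ### The outer elements -/

omit hs in
theorem conj_S {u : L} (hus : u * s = s * u) (huS : u ∉ D.S) {c : L} (hc : c ∈ D.S) : u * c * u⁻¹ ∈ D.S := by
  have h1 : c * u⁻¹ ∉ D.S := by
    intro h
    apply huS
    have h2 := D.S.inv_mem (D.S.mul_mem (D.S.inv_mem hc) h)
    rwa [inv_mul_cancel_left, inv_inv] at h2
  have h2 : c * u⁻¹ * s = s * (c * u⁻¹) := by
    have h3 : u⁻¹ * s = s * u⁻¹ := (show Commute u s from hus).inv_left
    rw [mul_assoc, h3, ← mul_assoc, D.comm_S hc, mul_assoc]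
  have h3 := D.cover' hus h2 huS h1
  rwa [← mul_assoc] at h3

omit D hs in
theorem comm_mul {x y z w : L} (h1 : Commute z x) (h2 : Commute z y) (h3 : Commute z w) (h4 : Commute w x)
    (h5 : Commute w y) : ⁅z * x, w * y⁆ = ⁅x, y⁆ := by
  rw [commutatorElement_def, commutatorElement_def]
  have a1 : Commute z (x * (w * y) * x⁻¹) := (h1.mul_right (h3.mul_right h2)).mul_right h1.inv_right
  have a2 : Commute w (x * y * x⁻¹) := (h4.mul_right h5).mul_right h4.inv_right
  have a3 : Commute x w := h4.symm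
  calc z * x * (w * y) * (z * x)⁻¹ * (w * y)⁻¹ = z * (x * (w * y) * x⁻¹) * z⁻¹ * (w * y)⁻¹ := by group
    _ = x * (w * y) * x⁻¹ * (w * y)⁻¹ := by rw [a1.eq]; group
    _ = (x * w) * y * x⁻¹ * y⁻¹ * w⁻¹ := by group
    _ = w * (x * y * x⁻¹) * y⁻¹ * w⁻¹ := by rw [a3.eq]; group
    _ = (x * y * x⁻¹) * (w * y⁻¹) * w⁻¹ := by rw [a2.eq]; group
    _ = (x * y * x⁻¹) * (y⁻¹ * w) * w⁻¹ := by rw [h5.inv_right.eq]
    _ = x * y * x⁻¹ * y⁻¹ := by group

omit hs in
theorem comm_le : ⁅D.S, D.S⁆ ≤ D.j.range := by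
  rw [commutator_le]
  rintro _ ⟨k, f, rfl⟩ _ ⟨l, g, rfl⟩
  have c1 : ∀ (k : ℤ) (f : Spor.Fi22), Commute (s ^ k) (D.j f) :=
    fun k f => ((show Commute (D.j f) s from D.comm f).zpow_right k).symm
  rw [comm_mul (c1 k f) (c1 k g) ((Commute.refl s).zpow_zpow k l) (c1 l f) (c1 l g), ← map_commutatorElement]
  exact ⟨_, rfl⟩

omit hs in
theorem range_eq : ⁅D.j.range, D.j.range⁆ = D.j.range := by
  rw [MonoidHom.range_eq_map, ← map_commutator]
  congr 1
  have hs : IsSimpleGroup Spor.Fi22 := Cfsg.Agent.Fischer.Fi22Order.isSimple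
  rcases (inferInstance : (⁅(⊤ : Subgroup Spor.Fi22), (⊤ : Subgroup Spor.Fi22)⁆ : Subgroup Spor.Fi22).Normal).eq_bot_or_eq_top with h | h
  · exfalso
    have h1 : ∀ x : Spor.Fi22, x = 1 := by
      intro x
      apply Fi22Out.center_triv
      intro y
      have h2 : ⁅x, y⁆ ∈ ⁅(⊤ : Subgroup Spor.Fi22), ⊤⁆ := commutator_mem_commutator trivial trivial
      rw [h, mem_bot, commutatorElement_eq_one_iff_mul_comm] at h2
      exact h2
    obtain ⟨x, y, hxy⟩ := exists_pair_ne Spor.Fi22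
    exact hxy ((h1 x).trans (h1 y).symm)
  · exact h

omit hs in
theorem conj_range {u : L} (hus : u * s = s * u) (huS : u ∉ D.S) (f : Spor.Fi22) : ∃ g, D.j g = u * D.j f * u⁻¹ := by
  have h1 : (D.j.range).map (MulAut.conj u).toMonoidHom ≤ D.j.range := by
    have h2 : (D.j.range).map (MulAut.conj u).toMonoidHom ≤ D.S := by
      rintro _ ⟨_, ⟨g, rfl⟩, rfl⟩
      exact D.conj_S hus huS (D.j_mem g)
    have h3 : (D.j.range).map (MulAut.conj u).toMonoidHom =
        ⁅(D.j.range).map (MulAut.conj u).toMonoidHom, (D.j.range).map (MulAut.conj u).toMonoidHom⁆ := by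
      rw [← map_commutator, D.range_eq]
    rw [h3]
    exact (commutator_mono h2 h2).trans D.comm_le
  obtain ⟨g, hg⟩ := h1 ⟨D.j f, ⟨f, rfl⟩, rfl⟩
  exact ⟨g, hg⟩

omit hs in
/-- the automorphism induced by an element of `C(s)` outside `⟨s⟩ × j(Fi22)` -/
theorem exists_aut [Finite Spor.Fi22] {u : L} (hus : u * s = s * u) (huS : u ∉ D.S) :
    ∃ α : MulAut Spor.Fi22, ∀ f, D.j (α f) = u * D.j f * u⁻¹ := by
  choose φ hφ using D.conj_range hus huS
  let ψ : Spor.Fi22 →* Spor.Fi22 :=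
    { toFun := φ
      map_one' := by
        apply D.inj
        rw [hφ, map_one, mul_one, mul_inv_cancel]
      map_mul' := by
        intro x y
        apply D.inj
        rw [hφ, map_mul, map_mul, hφ, hφ]
        group }
  have hψ : Function.Injective ψ := by
    intro x y hxy
    apply D.inj
    have h1 : D.j (φ x) = D.j (φ y) := congrArg D.j hxy
    rw [hφ, hφ] at h1
    exact mul_left_cancel (mul_right_cancel h1)
  exact ⟨MulEquiv.ofBijective ψ ⟨hψ, Finite.surjective_of_injective hψ⟩, hφ⟩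

theorem card_le [Finite L] {u : L} {n : ℕ} (hn : u ^ 2 ^ n = 1) (hus : u * s = s * u) (huS : u ∉ D.S) :
    Nat.card ↥(centralizer ({u * s} : Set L)) ≤ 7357464576 := by
  have hfin : Finite Spor.Fi22 := Finite.of_injective D.j D.inj
  obtain ⟨α, hα⟩ := D.exists_aut hus huS
  have hpow : ∀ (m : ℕ) (f : Spor.Fi22), D.j ((α ^ m) f) = u ^ m * D.j f * (u ^ m)⁻¹ := by
    intro m
    induction m with
    | zero => intro f; rw [pow_zero, pow_zero, one_mul, inv_one, mul_one]; rfl
    | succ m ih =>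
      intro f
      rw [pow_succ', MulAut.mul_apply, hα, ih, pow_succ']
      group
  have hα1 : α ^ 2 ^ n = 1 := by
    ext f
    apply D.inj
    rw [hpow, hn, one_mul, inv_one, mul_one]
    rfl
  have hαo : ¬ ∃ g, α = MulAut.conj g := by
    rintro ⟨g, rfl⟩
    apply huS
    have h1 : (D.j g)⁻¹ * u ∈ D.S := by
      refine D.out _ ?_ ?_
      · have h2 : (D.j g)⁻¹ * s = s * (D.j g)⁻¹ := (show Commute (D.j g) s from D.comm g).inv_left
        rw [mul_assoc, hus, ← mul_assoc, h2, mul_assoc]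
      · intro f
        have h2 := hα f
        rw [MulAut.conj_apply, map_mul, map_mul, map_inv] at h2
        calc (D.j g)⁻¹ * u * D.j f = (D.j g)⁻¹ * (u * D.j f * u⁻¹) * u := by group
          _ = D.j f * ((D.j g)⁻¹ * u) := by rw [← h2]; group
    have h2 := D.S.mul_mem (D.j_mem g) h1
    rwa [mul_inv_cancel_left] at h2
  have hfix := Fi22Out.outer_le hα1 hαo
  -- `C(u s) ≤ C(u) ⊓ C(s)`
  have hc : Commute u s := hus
  have hle : centralizer ({u * s} : Set L) ≤ centralizer ({u} : Set L) ⊓ centralizer ({s} : Set L) := by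
    intro c hcc
    rw [mem_centralizer_singleton_iff] at hcc
    have h1 : Commute c (u * s) := hcc
    have h2 : Commute c ((u * s) ^ 2 ^ n) := h1.pow_right _
    rw [hc.mul_pow, hn, one_mul] at h2
    have h3 : Commute c s := by
      have h4 : (s ^ 2 ^ n) ^ 2 ^ n = s := by
        rw [← pow_mul, ← pow_add, ← two_mul, pow_mul, show 2 ^ 2 = 3 * 1 + 1 by norm_num]
        clear h2 hpow hα1 hn
        induction n with
        | zero => rw [pow_zero, pow_one]
        | succ n ih =>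
          rw [pow_succ, pow_mul, ih, pow_succ, pow_mul, ← hs, pow_orderOf_eq_one, one_pow, one_mul]
      rw [← h4]
      exact h2.pow_right _
    refine ⟨mem_centralizer_singleton_iff.2 ?_, mem_centralizer_singleton_iff.2 h3.eq⟩
    have h4 : Commute c (u * s * s⁻¹) := h1.mul_right h3.inv_right
    rwa [mul_inv_cancel_right] at h4
  set A : Subgroup L := centralizer ({u} : Set L) ⊓ centralizer ({s} : Set L) with hA
  refine (card_le_of_le hle).trans ?_
  -- the intersection with `S`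
  have h1 : Nat.card ↥(A ⊓ D.S) ≤ 3 * 1226244096 := by
    let φ : ↥(zpowers s) × ↥(fixedSubgroup α) → L := fun p => (p.1 : L) * D.j (p.2 : Spor.Fi22)
    have h2 : ((A ⊓ D.S : Subgroup L) : Set L) ⊆ Set.range φ := by
      rintro _ ⟨⟨hx1, hx2⟩, ⟨k, f, rfl⟩⟩
      have hxu := mem_centralizer_singleton_iff.1 hx1
      have hku : u * s ^ k = s ^ k * u := (show Commute u s from hus).zpow_right k
      have hf : α f = f := by
        apply D.inj
        rw [hα]
        have h3 : s ^ k * (D.j f * u) = s ^ k * (u * D.j f) := by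
          calc s ^ k * (D.j f * u) = s ^ k * D.j f * u := by group
            _ = u * (s ^ k * D.j f) := hxu
            _ = (u * s ^ k) * D.j f := by group
            _ = _ := by rw [hku]; group
        rw [← mul_left_cancel h3, mul_inv_cancel_right]
      exact ⟨(⟨s ^ k, k, rfl⟩, ⟨f, hf⟩), rfl⟩
    have h3 : Nat.card ↥(A ⊓ D.S) ≤ Nat.card (Set.range φ) := by
      have := Set.Finite.to_subtype (Set.finite_range φ)
      exact Nat.card_mono (Set.finite_range φ) h2
    have h4 : Nat.card (Set.range φ) ≤ Nat.card (↥(zpowers s) × ↥(fixedSubgroup α)) :=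
      Nat.card_le_card_of_surjective (Set.rangeFactorization φ) Set.rangeFactorization_surjective
    rw [Nat.card_prod, Nat.card_zpowers, hs] at h4
    exact (h3.trans h4).trans (Nat.mul_le_mul_left _ hfix)
  -- the index is at most two
  have h2 : Nat.card A ≤ 2 * Nat.card ↥(A ⊓ D.S) := by
    have h3 := ((A ⊓ D.S).subgroupOf A).card_mul_index
    rw [Nat.card_congr (subgroupOfEquivOfLe (inf_le_left : A ⊓ D.S ≤ A)).toEquiv] at h3
    have h4 : ((A ⊓ D.S).subgroupOf A).index ≤ 2 := by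
      by_cases h5 : A ≤ D.S
      · have h6 : (A ⊓ D.S).subgroupOf A = ⊤ := by
          rw [subgroupOf_eq_top]
          exact le_inf le_rfl h5
        rw [h6, index_top]
        norm_num
      · obtain ⟨a, haA, haS⟩ := SetLike.not_le_iff_exists.1 h5
        have hm : ∀ b : A, b ∈ (A ⊓ D.S).subgroupOf A ↔ (b : L) ∈ D.S := by
          intro b
          rw [mem_subgroupOf, mem_inf]
          exact and_iff_right b.2
        have h6 : ((A ⊓ D.S).subgroupOf A).index = 2 := by
          rw [index_eq_two_iff]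
          refine ⟨⟨a, haA⟩, fun b => ?_⟩
          rw [hm, hm]
          by_cases hb : (b : L) ∈ D.S
          · right
            refine ⟨hb, fun h7 => haS ?_⟩
            have h8 := D.S.mul_mem (D.S.inv_mem hb) h7
            rwa [coe_mul, inv_mul_cancel_left] at h8
          · left
            refine ⟨?_, hb⟩
            exact D.cover' (mem_centralizer_singleton_iff.1 b.2.2) (mem_centralizer_singleton_iff.1 haA.2) hb haS
        rw [h6]
    rw [← h3, mul_comm]
    exact Nat.mul_le_mul_right _ h4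
  omega

/-- **`u s` is a commutator or has a small centralizer** -/
theorem isC_or_card [Finite L] (hA : AllC Spor.Fi22) {u : L} {n : ℕ} (hn : u ^ 2 ^ n = 1) (hus : u * s = s * u) :
    IsC (u * s) ∨ Nat.card ↥(centralizer ({u * s} : Set L)) ≤ 7357464576 := by
  by_cases huS : u ∈ D.S
  · left
    obtain ⟨f, rfl⟩ := D.two_mem hs hn huS
    exact D.isC_j hs hA f
  · right
    exact D.card_le hs hn hus huS

end FiFrame

end Cfsg.Agent.H480.Ore
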